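/-
Cube roots outside a subfield.
Main results: `three_mul_dvd`, `exists_small_field`.
-/
import Cfsg.Agent.Lib.Mitchell.Transv.Frame

set_option autoImplicit false
set_option linter.unusedSectionVars false
set_option linter.style.haveILetI false

namespace Cfsg.Agent.Mitchell.Almost

open Cfsg.Agent.Mitchell.Transv

variable {F : Type*} [Field F] [Fintype F] {p α : ℕ}

lemma exists_pow [Fact p.Prime] (hF : Fintype.card F = p ^ α) (K : Subfield F) :
    ∃ γ : ℕ, 1 ≤ γ ∧ Nat.card K = p ^ γ ∧ γ ∣ α := by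
  haveI : Fintype K := Fintype.ofFinite _
  obtain ⟨p', hp'⟩ := CharP.exists K
  haveI := Fact.mk (CharP.char_is_prime K p')
  obtain ⟨⟨γ, hγ⟩, hp, hK⟩ := FiniteField.card K p'
  simp only [PNat.mk_coe] at hK
  have h := Module.natCard_eq_pow_finrank (K := K) (V := F)
  rw [Nat.card_eq_fintype_card (α := F), Nat.card_eq_fintype_card (α := K), hF, hK, ← pow_mul] at h
  have hn : γ * Module.finrank K F ≠ 0 := Nat.mul_ne_zero (by omega) (Module.finrank_pos).ne'
  have hpp : p = p' := by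
    have h1 : p' ∣ p ^ α := h ▸ dvd_pow_self p' hn
    exact ((Nat.prime_dvd_prime_iff_eq hp Fact.out).1 (hp.dvd_of_dvd_pow h1)).symm
  subst hpp
  refine ⟨γ, hγ, by rw [Nat.card_eq_fintype_card, hK], ?_⟩
  exact ⟨Module.finrank K F, Nat.pow_right_injective (Fact.out : p.Prime).two_le h⟩

/-- A cube root outside `K` needs degree divisible by three. -/
theorem three_mul_dvd [Fact p.Prime] (hF : Fintype.card F = p ^ α) (K : Subfield F) {γ : ℕ}
    (hK : Nat.card K = p ^ γ) (h3 : 3 ∣ p ^ γ - 1) {s : F} (hs : s ∉ K) (hs3 : s ^ 3 ∈ K) :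
    3 * γ ∣ α := by
  have hs0 : s ≠ 0 := fun h => hs (h ▸ K.zero_mem)
  haveI : Fintype K := Fintype.ofFinite _
  have h := Module.natCard_eq_pow_finrank (K := K) (V := F)
  rw [Nat.card_eq_fintype_card (α := F), hF, hK, ← pow_mul] at h
  have hα : α = γ * Module.finrank K F := Nat.pow_right_injective (Fact.out : p.Prime).two_le h
  set Q := p ^ γ with hQ
  have hQ1 : 1 < Q := hK ▸ one_lt_card K
  set w := s ^ (Q - 1) with hw
  have hsQ : s ^ Q = w * s := by rw [hw, ← pow_succ, Nat.sub_add_cancel (by omega)]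
  have hw3 : w ^ 3 = 1 := by
    have h1 := pow_card_of_mem hs3
    rw [hK] at h1
    have h30 : s ^ 3 ≠ 0 := pow_ne_zero 3 hs0
    refine mul_right_cancel₀ h30 ?_
    rw [one_mul, hw, ← pow_mul, mul_comm (Q - 1), pow_mul, ← pow_succ, Nat.sub_add_cancel (by omega), h1]
  have hw1 : w ≠ 1 := fun hw1 => hs (mem_of_pow_card (by rw [hK, hsQ, hw1, one_mul]))
  have hwQ : w ^ Q = w := by
    obtain ⟨m, hm⟩ := h3
    rw [show Q = 3 * m + 1 by omega, pow_succ, pow_mul, hw3, one_pow, one_mul]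
  have hiter : ∀ j : ℕ, s ^ Q ^ j = w ^ j * s := by
    intro j
    induction j with
    | zero => simp
    | succ j ih =>
      rw [pow_succ, pow_mul, ih, mul_pow, ← pow_mul, mul_comm j Q, pow_mul, hwQ, hsQ, ← mul_assoc, ← pow_succ]
  have hn := hiter (Module.finrank K F)
  rw [hQ, ← pow_mul, ← hα, ← hF, FiniteField.pow_card] at hn
  have hwn : w ^ Module.finrank K F = 1 := mul_right_cancel₀ hs0 (by rw [one_mul]; exact hn.symm)
  have hord : orderOf w = 3 := by
    haveI := Fact.mk Nat.prime_three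
    exact orderOf_eq_prime hw3 hw1
  obtain ⟨m, hm⟩ := hord ▸ orderOf_dvd_of_pow_eq_one hwn
  exact ⟨m, by rw [hα, hm]; ring⟩

/-- A copy of `K` in `Type`. -/
theorem exists_small_field (K : Subfield F) {p γ : ℕ} [Fact p.Prime] (hγ : 1 ≤ γ)
    (hK : Nat.card K = p ^ γ) :
    ∃ (K0 : Type) (_ : Field K0) (_ : Fintype K0), Fintype.card K0 = p ^ γ ∧ Nonempty (K ≃+* K0) := by
  haveI : Fintype K := Fintype.ofFinite _
  haveI : Fintype (GaloisField p γ) := Fintype.ofFinite _
  have hc : Fintype.card (GaloisField p γ) = p ^ γ := by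
    rw [← Nat.card_eq_fintype_card, GaloisField.card p γ (by omega)]
  exact ⟨GaloisField p γ, inferInstance, inferInstance, hc,
    ⟨FiniteField.ringEquivOfCardEq (by rw [hc, ← Nat.card_eq_fintype_card, hK])⟩⟩

end Cfsg.Agent.Mitchell.Almost
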