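/-
Irreducibility through common eigenvectors.
Main results:
* `Eig`, `irred_iff` : irreducible iff neither the group nor its dual has a common eigenvector
* `irred_of_normal` : a non-abelian subgroup normalised by an irreducible group is irreducible
* `commute_of_centralize` : matrices centralising an irreducible group commute
-/
import Cfsg.Agent.Lib.Mitchell.Transv.Normal
import Cfsg.Agent.Lib.Mitchell.Free.Levi

set_option autoImplicit false
set_option linter.unusedSectionVars false
set_option linter.style.haveILetI false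

namespace Cfsg.Agent.Mitchell.Almost

open Matrix Cfsg.Agent.SL3Max Cfsg.Agent.Transvect Cfsg.Agent.Mitchell.Transv Module

variable {F : Type*} [Field F]

/-- A common eigenvector. -/
def Eig (A : Subgroup (GL (Fin 3) F)) : Prop := ∃ v : V3 F, v ≠ 0 ∧ ∀ a ∈ A, ∃ c : F, app a v = c • v

lemma not_eig_of_irred {A : Subgroup (GL (Fin 3) F)} (h : Irred A) : ¬ Eig A := by
  rintro ⟨v, hv, hA⟩
  rcases h (F ∙ v) (fun g hg w hw => by
      obtain ⟨a, rfl⟩ := Submodule.mem_span_singleton.1 hw
      obtain ⟨c, hc⟩ := hA g hg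
      rw [map_smul, hc, smul_smul]
      exact Submodule.smul_mem _ _ (Submodule.mem_span_singleton_self v)) with h1 | h1
  · exact hv (Submodule.span_singleton_eq_bot.1 h1)
  · have h2 := finrank_span_singleton (K := F) hv
    rw [h1, finrank_top, Module.finrank_fin_fun] at h2
    omega

lemma dualHom_apply (g : GL (Fin 3) F) (w : V3 F) :
    app (dualHom g) w = w ᵥ* ((g⁻¹ : GL (Fin 3) F) : Matrix (Fin 3) (Fin 3) F) := by
  rw [app_apply]
  exact Matrix.mulVec_transpose _ _

lemma not_eig_dual_of_irred {A : Subgroup (GL (Fin 3) F)} (h : Irred A) : ¬ Eig (A.map dualHom) := by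
  rintro ⟨ω, hω, hA⟩
  have hker : ∀ g ∈ A, ∀ x, dot ω x = 0 → dot ω (app g x) = 0 := by
    intro g hg x hx
    obtain ⟨c, hc⟩ := hA _ ⟨g⁻¹, inv_mem hg, rfl⟩
    rw [dualHom_apply, inv_inv] at hc
    rw [dot_apply, app_apply, dotProduct_mulVec, hc, smul_dotProduct, ← dot_apply, hx, smul_zero]
  rcases h (LinearMap.ker (dot ω)) (fun g hg w hw => hker g hg w hw) with h1 | h1
  · have h2 := LinearMap.finrank_range_add_finrank_ker (dot ω)
    rw [h1, finrank_bot, Module.finrank_fin_fun] at h2
    have h3 := Submodule.finrank_le (LinearMap.range (dot ω))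
    rw [Module.finrank_self] at h3
    omega
  · refine hω (funext fun i => ?_)
    have h2 : (Pi.single i 1 : V3 F) ∈ LinearMap.ker (dot ω) := h1 ▸ Submodule.mem_top
    simpa using h2

lemma irred_of_not_eig {A : Subgroup (GL (Fin 3) F)} (h1 : ¬ Eig A) (h2 : ¬ Eig (A.map dualHom)) :
    Irred A := by
  intro W hW
  by_contra hne
  push Not at hne
  have hpos : finrank F W ≠ 0 := fun h => hne.1 (Submodule.finrank_eq_zero.1 h)
  have hlt : finrank F W < 3 := by
    have := Submodule.finrank_lt hne.2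
    rwa [Module.finrank_fin_fun] at this
  obtain ⟨v, hv, hv0⟩ := Submodule.exists_mem_ne_zero_of_ne_bot hne.1
  by_cases hone : finrank F W = 1
  · refine h1 ⟨v, hv0, fun a ha => ?_⟩
    have hWv : (F ∙ v) = W := Submodule.eq_of_le_of_finrank_le
      ((Submodule.span_singleton_le_iff_mem _ _).2 hv) (by rw [hone, finrank_span_singleton hv0])
    obtain ⟨c, hc⟩ := Submodule.mem_span_singleton.1 (hWv.symm ▸ hW a ha v hv)
    exact ⟨c, hc.symm⟩
  · obtain ⟨u, hu⟩ : ∃ u, u ∉ W := by
      by_contra hh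
      push Not at hh
      exact hne.2 (Submodule.eq_top_iff'.2 hh)
    obtain ⟨φ, hφ, hφu⟩ := exists_dual_eq_one hu
    obtain ⟨ω, rfl⟩ := exists_dot φ
    have hker : LinearMap.ker (dot ω) = W := by
      refine (Submodule.eq_of_le_of_finrank_le (fun w hw => hφ w hw) ?_).symm
      have h3 := LinearMap.finrank_range_add_finrank_ker (dot ω)
      rw [Module.finrank_fin_fun] at h3
      have h4 : finrank F (LinearMap.range (dot ω)) ≠ 0 := fun h => by
        have h5 : dot ω u ∈ LinearMap.range (dot ω) := ⟨u, rfl⟩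
        rw [Submodule.finrank_eq_zero.1 h, Submodule.mem_bot, hφu] at h5
        exact one_ne_zero h5
      have h6 : finrank F W = 2 := by omega
      rw [h6]
      omega
    refine h2 ⟨ω, fun h0 => by rw [h0] at hφu; simp at hφu, ?_⟩
    rintro _ ⟨g, hg, rfl⟩
    refine ⟨dot ω (app g⁻¹ u), ?_⟩
    rw [dualHom_apply]
    refine funext fun i => ?_
    set x : V3 F := Pi.single i 1
    have hx : x - dot ω x • u ∈ W := by
      rw [← hker, LinearMap.mem_ker, map_sub, map_smul, hφu, smul_eq_mul, mul_one, sub_self]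
    have hgx := hφ _ (hW g⁻¹ (inv_mem hg) _ hx)
    rw [map_sub, map_smul, map_sub, map_smul, sub_eq_zero, smul_eq_mul] at hgx
    have e1 : (ω ᵥ* ((g⁻¹ : GL (Fin 3) F) : Matrix (Fin 3) (Fin 3) F)) i = dot ω (app g⁻¹ x) := by
      rw [dot_apply, app_apply, dotProduct_mulVec, dotProduct_single, mul_one]
    rw [e1, hgx, dot_apply ω x, dotProduct_single, mul_one, Pi.smul_apply, smul_eq_mul, mul_comm]

lemma irred_iff {A : Subgroup (GL (Fin 3) F)} : Irred A ↔ ¬ Eig A ∧ ¬ Eig (A.map dualHom) :=
  ⟨fun h => ⟨not_eig_of_irred h, not_eig_dual_of_irred h⟩, fun h => irred_of_not_eig h.1 h.2⟩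

lemma dual_dual (A : Subgroup (GL (Fin 3) F)) : (A.map dualHom).map dualHom = A := by
  rw [Subgroup.map_map]
  convert Subgroup.map_id A using 2
  ext g : 1
  exact dualHom_dualHom g

lemma Irred.dual {A : Subgroup (GL (Fin 3) F)} (h : Irred A) : Irred (A.map dualHom) := by
  rw [irred_iff, dual_dual]
  exact ⟨not_eig_dual_of_irred h, not_eig_of_irred h⟩

lemma commute_of_eig {G A : Subgroup (GL (Fin 3) F)} (hG : Irred G)
    (hn : ∀ g ∈ G, ∀ a ∈ A, g * a * g⁻¹ ∈ A) (hA : Eig A) : ∀ a ∈ A, ∀ b ∈ A, a * b = b * a := by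
  let L : Submodule F (V3 F) := Submodule.span F {v | ∀ a ∈ A, ∃ c : F, app a v = c • v}
  have hL : ∀ g ∈ G, ∀ w ∈ L, app g w ∈ L := by
    intro g hg w hw
    induction hw using Submodule.span_induction with
    | mem v hv =>
      refine Submodule.subset_span fun a ha => ?_
      obtain ⟨c, hc⟩ := hv (g⁻¹ * a * g⁻¹⁻¹) (hn g⁻¹ (inv_mem hg) a ha)
      refine ⟨c, ?_⟩
      have := congrArg (app g) hc
      rw [map_smul, ← LinearEquiv.mul_apply, ← map_mul] at this
      rw [← this, ← LinearEquiv.mul_apply, ← map_mul]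
      congr 2
      group
    | zero => rw [map_zero]; exact L.zero_mem
    | add x y _ _ hx hy => rw [map_add]; exact L.add_mem hx hy
    | smul c x _ hx => rw [map_smul]; exact L.smul_mem c hx
  obtain ⟨v, hv0, hv⟩ := hA
  rcases hG L hL with h | h
  · exact absurd ((Submodule.mem_bot F).1 (h ▸ Submodule.subset_span hv)) hv0
  · intro a ha b hb
    refine gl_ext fun x => ?_
    have hx : x ∈ L := h ▸ Submodule.mem_top
    induction hx using Submodule.span_induction with
    | mem v hv =>
      obtain ⟨c, hc⟩ := hv a ha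
      obtain ⟨c', hc'⟩ := hv b hb
      rw [map_mul, map_mul, LinearEquiv.mul_apply, LinearEquiv.mul_apply, hc', map_smul, hc, map_smul,
        hc', smul_smul, smul_smul, mul_comm]
    | zero => simp only [map_zero]
    | add x y _ _ hx hy => simp only [map_add, hx, hy]
    | smul c x _ hx => simp only [map_smul, hx]

/-- A non-abelian subgroup normalised by an irreducible group is irreducible. -/
theorem irred_of_normal {G A : Subgroup (GL (Fin 3) F)} (hG : Irred G)
    (hn : ∀ g ∈ G, ∀ a ∈ A, g * a * g⁻¹ ∈ A) (hA : ¬ ∀ a ∈ A, ∀ b ∈ A, a * b = b * a) : Irred A := by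
  rw [irred_iff]
  refine ⟨fun h => hA (commute_of_eig hG hn h), fun h => hA fun a ha b hb => ?_⟩
  have h1 := commute_of_eig (A := A.map dualHom) (Irred.dual hG) (by
      rintro _ ⟨g, hg, rfl⟩ _ ⟨a, ha, rfl⟩
      exact ⟨g * a * g⁻¹, hn g hg a ha, by rw [map_mul, map_mul, map_inv]⟩)
    h _ ⟨a, ha, rfl⟩ _ ⟨b, hb, rfl⟩
  rw [← map_mul, ← map_mul] at h1
  have := congrArg dualHom h1
  rwa [dualHom_dualHom, dualHom_dualHom] at this

/-- Matrices centralising an irreducible group commute. -/
theorem commute_of_centralize [Finite F] {A : Subgroup (GL (Fin 3) F)} (hA : Irred A)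
    {b c : GL (Fin 3) F} (hb : ∀ a ∈ A, b * a = a * b) (hc : ∀ a ∈ A, c * a = a * c) :
    b * c = c * b := by
  classical
  let R : Subalgebra F (Matrix (Fin 3) (Fin 3) F) :=
    Subalgebra.centralizer F ((fun a : GL (Fin 3) F => (a : Matrix (Fin 3) (Fin 3) F)) '' A)
  have hinj : ∀ M ∈ R, M ≠ 0 → ∀ v, M *ᵥ v = 0 → v = 0 := by
    intro M hM hM0 v hv
    rcases hA (LinearMap.ker (Matrix.mulVecLin M)) (fun g hg w hw => by
        have e : M * (g : Matrix (Fin 3) (Fin 3) F) = (g : Matrix (Fin 3) (Fin 3) F) * M :=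
          ((Subalgebra.mem_centralizer_iff (R := F)).1 hM _ ⟨g, hg, rfl⟩).symm
        rw [LinearMap.mem_ker, Matrix.mulVecLin_apply] at hw ⊢
        rw [app_apply, Matrix.mulVec_mulVec, e, ← Matrix.mulVec_mulVec, hw, Matrix.mulVec_zero]) with h | h
    · have h1 : v ∈ LinearMap.ker (Matrix.mulVecLin M) := hv
      rwa [h, Submodule.mem_bot] at h1
    · refine absurd (Matrix.ext_of_mulVec_single fun i => ?_) hM0
      have h1 : (Pi.single i 1 : V3 F) ∈ LinearMap.ker (Matrix.mulVecLin M) := h ▸ Submodule.mem_top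
      rw [LinearMap.mem_ker, Matrix.mulVecLin_apply] at h1
      rw [h1, Matrix.zero_mulVec]
  haveI : NoZeroDivisors R := ⟨fun {M N} h => by
    by_contra hne
    push Not at hne
    refine hne.2 (Subtype.ext (Matrix.ext_of_mulVec_single fun i => ?_))
    rw [ZeroMemClass.coe_zero, Matrix.zero_mulVec]
    refine hinj M.1 M.2 (fun h0 => hne.1 (Subtype.ext h0)) _ ?_
    rw [Matrix.mulVec_mulVec]
    have h' := congrArg Subtype.val h
    rw [MulMemClass.coe_mul] at h'
    rw [h', ZeroMemClass.coe_zero, Matrix.zero_mulVec]⟩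
  haveI : IsDomain R := NoZeroDivisors.to_isDomain _
  have hmem : ∀ x : GL (Fin 3) F, (∀ a ∈ A, x * a = a * x) → (x : Matrix (Fin 3) (Fin 3) F) ∈ R := fun x hx => by
    rw [Subalgebra.mem_centralizer_iff]
    rintro _ ⟨a, ha, rfl⟩
    rw [← Units.val_mul, ← Units.val_mul, hx a ha]
  have := (Finite.isDomain_to_isField R).mul_comm ⟨_, hmem b hb⟩ ⟨_, hmem c hc⟩
  exact Units.ext (congrArg Subtype.val this)

end Cfsg.Agent.Mitchell.Almost
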