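/-
A subgroup of `PSL₃` with trivial solvable radical is irreducible.
Main results:
* `Over` : a group and its preimage in `GL₃`
* `rad_of_elementary` : no elementary abelian normal subgroup means no solvable one
* `Over.irred` : irreducibility
-/
import Cfsg.Agent.Lib.Mitchell.Almost.Irred
import Cfsg.Agent.Lib.FittingLength.Coprime
import Cfsg.Agent.Lib.OddOrderTheorem.Basic
import Cfsg.Agent.Lib.ThreeTransRank.Block

set_option autoImplicit false
set_option linter.unusedSectionVars false
set_option linter.style.haveILetI false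

namespace Cfsg.Agent.Mitchell.Almost

open Matrix Cfsg.Agent.SL3Max Cfsg.Agent.Transvect Cfsg.Agent.Mitchell.Transv
open scoped commutatorElement

universe u v

variable {F : Type u} [Field F]

/-- A group `H` with its preimage `Gh` in `GL₃`. -/
structure Over (H : Type v) [Group H] (Gh : Subgroup (GL (Fin 3) F)) where
  π : ↥Gh →* H
  surj : Function.Surjective π
  ker_iff : ∀ g, π g = 1 ↔ (g : GL (Fin 3) F) ∈ Cfsg.Geo.scalars (Fin 3) F
  sl : Gh ≤ Cfsg.Geo.specialLinear (Fin 3) F
  hz : Cfsg.Geo.scalars (Fin 3) F ⊓ Cfsg.Geo.specialLinear (Fin 3) F ≤ Gh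

lemma dual_mem_scalars {g : GL (Fin 3) F} (h : g ∈ Cfsg.Geo.scalars (Fin 3) F) :
    dualHom g ∈ Cfsg.Geo.scalars (Fin 3) F := by
  obtain ⟨c, hc0, hc, happ⟩ := app_of_mem_scalars h
  refine mem_scalars_of_app (c := c⁻¹) fun x => ?_
  rw [dualHom_apply]
  funext i
  have e := happ (app g⁻¹ (Pi.single i 1))
  rw [app_app_inv] at e
  have e1 : (x ᵥ* ((g⁻¹ : GL (Fin 3) F) : Matrix (Fin 3) (Fin 3) F)) i = x ⬝ᵥ app g⁻¹ (Pi.single i 1) := by
    rw [app_apply, dotProduct_mulVec, dotProduct_single, mul_one]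
  rw [e1, show app g⁻¹ (Pi.single i 1) = c⁻¹ • (Pi.single i 1 : V3 F) by
    conv_rhs => rw [e]
    rw [smul_smul, inv_mul_cancel₀ hc0, one_smul]]
  simp [dotProduct_smul]

lemma dual_mem_sl {g : GL (Fin 3) F} (h : g ∈ Cfsg.Geo.specialLinear (Fin 3) F) :
    dualHom g ∈ Cfsg.Geo.specialLinear (Fin 3) F := by
  rw [mem_sl_iff]
  show ((((g⁻¹ : GL (Fin 3) F)) : Matrix (Fin 3) (Fin 3) F)ᵀ).det = 1
  rw [Matrix.det_transpose]
  exact mem_sl_iff.1 (inv_mem h)

variable {H : Type v} [Group H] {Gh : Subgroup (GL (Fin 3) F)}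

/-- The dual. -/
noncomputable def Over.dual (O : Over H Gh) : Over H (Gh.map dualHom) :=
  let e := Gh.equivMapOfInjective dualHom
    (fun a b h => by rw [← dualHom_dualHom a, h, dualHom_dualHom])
  { π := O.π.comp e.symm.toMonoidHom
    surj := O.surj.comp e.symm.surjective
    ker_iff := fun g => by
      obtain ⟨g, rfl⟩ := e.surjective g
      show O.π (e.symm (e g)) = 1 ↔ _
      rw [e.symm_apply_apply, O.ker_iff]
      show _ ↔ dualHom (g : GL (Fin 3) F) ∈ _
      exact ⟨dual_mem_scalars, fun h => dualHom_dualHom (g : GL (Fin 3) F) ▸ dual_mem_scalars h⟩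
    sl := by
      rintro _ ⟨g, hg, rfl⟩
      exact dual_mem_sl (O.sl hg)
    hz := fun g hg =>
      ⟨dualHom g, O.hz ⟨dual_mem_scalars hg.1, dual_mem_sl hg.2⟩, dualHom_dualHom g⟩ }

/-- No elementary abelian normal subgroup, no solvable one. -/
theorem rad_of_elementary [Finite H]
    (hN : ∀ N : Subgroup H, N.Normal → IsMulCommutative ↥N → (∃ r : ℕ, r.Prime ∧ ∀ x ∈ N, x ^ r = 1) → N = ⊥) :
    ThreeTransRank.TrivialRadical H := by
  intro N hNn hsol
  by_contra hne
  obtain ⟨V, hVn, hVN, hV, hmin⟩ := FittingLength.exists_minimal_normal (D := N) hne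
  haveI : Group.IsSolvable V :=
    Group.isSolvable_of_isSolvable_injective (Subgroup.inclusion_injective hVN)
  obtain ⟨hab, q, hq, hqd, -⟩ := FittingLength.minimal_normal_abelian_pgroup hV inferInstance hmin
  haveI := Fact.mk hq
  let W : Subgroup H :=
    { carrier := {x | x ∈ V ∧ x ^ q = 1}
      one_mem' := ⟨V.one_mem, one_pow q⟩
      mul_mem' := fun {a b} ha hb => ⟨V.mul_mem ha.1 hb.1, by
        rw [Commute.mul_pow (hab a ha.1 b hb.1), ha.2, hb.2, one_mul]⟩
      inv_mem' := fun {a} ha => ⟨V.inv_mem ha.1, by rw [inv_pow, ha.2, inv_one]⟩ }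
  have hWn : W.Normal := ⟨fun x hx g => ⟨hVn.conj_mem x hx.1 g, by
    rw [conj_pow, hx.2, mul_one, mul_inv_cancel]⟩⟩
  have hW : W = ⊥ := hN W hWn ⟨⟨fun a b => Subtype.ext (hab _ a.2.1 _ b.2.1)⟩⟩ ⟨q, hq, fun x hx => hx.2⟩
  obtain ⟨x, hx⟩ := exists_prime_orderOf_dvd_card' q hqd
  have hxW : (x : H) ∈ W := ⟨x.2, by
    rw [← Subgroup.coe_pow, ← hx, pow_orderOf_eq_one, Subgroup.coe_one]⟩
  rw [hW, Subgroup.mem_bot, OneMemClass.coe_eq_one] at hxW
  rw [hxW, orderOf_one] at hx
  exact hq.ne_one hx.symm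

lemma center_eq_bot [Finite H] (hrad : ThreeTransRank.TrivialRadical H) : Subgroup.center H = ⊥ :=
  hrad _ inferInstance (by
    haveI : IsMulCommutative (Subgroup.center H) := inferInstance
    exact Group.isSolvable_of_comm fun a b => IsMulCommutative.is_comm.comm a b)

/-- No common eigenvector. -/
theorem Over.not_eig [Finite F] (h2 : (2 : F) ≠ 0) (O : Over H Gh)
    (hrad : ThreeTransRank.TrivialRadical H) (hH : Nontrivial H) : ¬ Eig Gh := by
  classical
  haveI : Finite H := Finite.of_surjective O.π O.surj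
  rintro ⟨v, hv0, hv⟩
  have inj : ∀ {a b : F}, a • v = b • v → a = b := fun h => smul_left_injective F hv0 h
  -- the unipotent radical
  let U : Subgroup ↥Gh :=
    { carrier := {g | app (g : GL (Fin 3) F) v = v ∧ ∀ x, app (g : GL (Fin 3) F) x - x ∈ F ∙ v}
      one_mem' := ⟨by simp, fun x => by simp⟩
      mul_mem' := fun {a b} ha hb => ⟨by rw [Subgroup.coe_mul, map_mul, LinearEquiv.mul_apply, hb.1, ha.1],
        fun x => by
          rw [Subgroup.coe_mul, map_mul, LinearEquiv.mul_apply,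
            ← sub_add_sub_cancel (app (a : GL (Fin 3) F) (app (b : GL (Fin 3) F) x)) (app (b : GL (Fin 3) F) x) x]
          exact Submodule.add_mem _ (ha.2 _) (hb.2 x)⟩
      inv_mem' := fun {a} ha => by
        have h1 : app ((a : GL (Fin 3) F))⁻¹ v = v := by
          conv_lhs => rw [← ha.1]
          rw [app_inv_app]
        refine ⟨by rw [Subgroup.coe_inv]; exact h1, fun x => ?_⟩
        rw [Subgroup.coe_inv]
        have := ha.2 (app ((a : GL (Fin 3) F))⁻¹ x)
        rw [app_app_inv] at this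
        rw [← neg_sub]
        exact Submodule.neg_mem _ this }
  have hUn : U.Normal := ⟨fun u hu g => by
    obtain ⟨c, hc⟩ := hv _ (g⁻¹).2
    obtain ⟨d, hd⟩ := hv _ g.2
    rw [Subgroup.coe_inv] at hc
    refine ⟨?_, fun x => ?_⟩
    · rw [Subgroup.coe_mul, Subgroup.coe_mul, Subgroup.coe_inv, map_mul, map_mul, LinearEquiv.mul_apply,
        LinearEquiv.mul_apply, hc, map_smul, hu.1, ← hc, app_app_inv]
    · rw [Subgroup.coe_mul, Subgroup.coe_mul, Subgroup.coe_inv, map_mul, map_mul, LinearEquiv.mul_apply,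
        LinearEquiv.mul_apply]
      obtain ⟨m, hm⟩ := Submodule.mem_span_singleton.1 (hu.2 (app ((g : GL (Fin 3) F))⁻¹ x))
      refine Submodule.mem_span_singleton.2 ⟨m * d, ?_⟩
      have := congrArg (app (g : GL (Fin 3) F)) hm
      rw [map_smul, hd, map_sub, app_app_inv, smul_smul] at this
      exact this⟩
  have hUab : ∀ a ∈ U, ∀ b ∈ U, a * b = b * a := by
    intro a ha b hb
    refine Subtype.ext (gl_ext fun x => ?_)
    obtain ⟨m, hm⟩ := Submodule.mem_span_singleton.1 (ha.2 x)
    obtain ⟨n, hn⟩ := Submodule.mem_span_singleton.1 (hb.2 x)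
    rw [Subgroup.coe_mul, Subgroup.coe_mul, map_mul, map_mul, LinearEquiv.mul_apply, LinearEquiv.mul_apply,
      show app (b : GL (Fin 3) F) x = x + n • v by rw [hn, add_sub_cancel],
      show app (a : GL (Fin 3) F) x = x + m • v by rw [hm, add_sub_cancel],
      map_add, map_add, map_smul, map_smul, ha.1, hb.1,
      show app (b : GL (Fin 3) F) x = x + n • v by rw [hn, add_sub_cancel],
      show app (a : GL (Fin 3) F) x = x + m • v by rw [hm, add_sub_cancel]]
    abel
  have hU : ∀ g ∈ U, g = 1 := by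
    intro g hg
    have hbot : U.map O.π = ⊥ := hrad _ (hUn.map O.π O.surj) (Group.isSolvable_of_comm (by
      rintro ⟨_, a, ha, rfl⟩ ⟨_, b, hb, rfl⟩
      exact Subtype.ext (by simp only [Subgroup.coe_mul, ← map_mul, hUab a ha b hb])))
    have h1 : O.π g = 1 := by
      rw [← Subgroup.mem_bot, ← hbot]
      exact ⟨g, hg, rfl⟩
    obtain ⟨c, -, -, hc⟩ := app_of_mem_scalars ((O.ker_iff g).1 h1)
    have hc1 : c = 1 := inj (by rw [← hc, hg.1, one_smul])
    refine Subtype.ext (gl_ext fun x => ?_)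
    rw [hc, hc1, one_smul, Subgroup.coe_one, map_one]; rfl
  -- elements scalar on the quotient are scalars
  have hscal : ∀ (z : ↥Gh) (b : F), (∀ x, app (z : GL (Fin 3) F) x - b • x ∈ F ∙ v) →
      (z : GL (Fin 3) F) ∈ Cfsg.Geo.scalars (Fin 3) F := by
    intro z b hz
    obtain ⟨a, ha⟩ := hv _ z.2
    have hcen : ∀ g : ↥Gh, g * z = z * g := by
      intro g
      obtain ⟨c, hc⟩ := hv _ g.2
      refine eq_of_inv_mul_eq_one (hU ((g * z)⁻¹ * (z * g)) ⟨?_, fun x => ?_⟩) 
      · have e1 : app (((g * z : ↥Gh) : GL (Fin 3) F)) v = app (((z * g : ↥Gh)) : GL (Fin 3) F) v := by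
          simp only [Subgroup.coe_mul, map_mul, LinearEquiv.mul_apply, ha, hc, map_smul, smul_smul, mul_comm]
        rw [Subgroup.coe_mul, Subgroup.coe_inv, map_mul, LinearEquiv.mul_apply, ← e1, app_inv_app]
      · rw [Subgroup.coe_mul, Subgroup.coe_inv, map_mul, LinearEquiv.mul_apply]
        set y := app (((g * z : ↥Gh)) : GL (Fin 3) F) x with hy
        set y' := app (((z * g : ↥Gh)) : GL (Fin 3) F) x with hy'
        have hdiff : y' - y ∈ F ∙ v := by
          obtain ⟨m, hm⟩ := Submodule.mem_span_singleton.1 (hz x)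
          obtain ⟨m', hm'⟩ := Submodule.mem_span_singleton.1 (hz (app (g : GL (Fin 3) F) x))
          refine Submodule.mem_span_singleton.2 ⟨m' - m * c, ?_⟩
          have h1 := congrArg (app (g : GL (Fin 3) F)) hm
          rw [map_smul, hc, smul_smul, map_sub, map_smul] at h1
          rw [hy, hy', Subgroup.coe_mul, Subgroup.coe_mul, map_mul, map_mul, LinearEquiv.mul_apply,
            LinearEquiv.mul_apply, sub_smul, hm', h1]
          abel
        obtain ⟨m, hm⟩ := Submodule.mem_span_singleton.1 hdiff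
        obtain ⟨e, he⟩ := hv _ ((g * z)⁻¹).2
        rw [Subgroup.coe_inv] at he
        refine Submodule.mem_span_singleton.2 ⟨m * e, ?_⟩
        have h1 := congrArg (app (((g * z : ↥Gh)) : GL (Fin 3) F)⁻¹) hm
        rw [map_smul, he, smul_smul, map_sub, hy, app_inv_app] at h1
        exact h1
    refine (O.ker_iff z).1 ?_
    have : O.π z ∈ Subgroup.center H := Subgroup.mem_center_iff.2 fun y => by
      obtain ⟨g, rfl⟩ := O.surj y
      rw [← map_mul, ← map_mul, hcen]
    rwa [center_eq_bot hrad, Subgroup.mem_bot] at this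
  -- the derived subgroup fixes `v`
  have hfix : ∀ z ∈ commutator ↥Gh, app (z : GL (Fin 3) F) v = v := by
    intro z hz
    rw [commutator_eq_closure] at hz
    induction hz using Subgroup.closure_induction with
    | mem z hz =>
      obtain ⟨g, h, rfl⟩ := hz
      obtain ⟨a, ha⟩ := hv _ g.2
      obtain ⟨b, hb⟩ := hv _ h.2
      obtain ⟨a', ha'⟩ := hv _ (g⁻¹).2
      obtain ⟨b', hb'⟩ := hv _ (h⁻¹).2
      rw [Subgroup.coe_inv] at ha' hb'
      have e1 : a * a' = 1 := inj (by
        rw [one_smul, mul_comm, mul_smul, ← ha, ← map_smul, ← ha', app_app_inv])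
      have e2 : b * b' = 1 := inj (by
        rw [one_smul, mul_comm, mul_smul, ← hb, ← map_smul, ← hb', app_app_inv])
      rw [commutatorElement_def, Subgroup.coe_mul, Subgroup.coe_mul, Subgroup.coe_mul, Subgroup.coe_inv,
        Subgroup.coe_inv, map_mul, map_mul, map_mul, LinearEquiv.mul_apply, LinearEquiv.mul_apply,
        LinearEquiv.mul_apply]
      simp only [hb', ha', hb, ha, map_smul, smul_smul]
      rw [show b' * a' * b * a = (a * a') * (b * b') by ring, e1, e2, mul_one, one_smul]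
    | one => simp
    | mul a b _ _ ha hb => rw [Subgroup.coe_mul, map_mul, LinearEquiv.mul_apply, hb, ha]
    | inv a _ ha => rw [Subgroup.coe_inv]; conv_lhs => rw [← ha, app_inv_app]
  rcases Nat.even_or_odd (Nat.card (commutator ↥Gh)) with heven | hodd
  · haveI := Fact.mk Nat.prime_two
    obtain ⟨z, hz⟩ := exists_prime_orderOf_dvd_card' 2 (even_iff_two_dvd.1 heven)
    have hzG : ((z : ↥Gh) : GL (Fin 3) F) ≠ 1 := fun h => by
      rw [show z = 1 from Subtype.ext (Subtype.ext h), orderOf_one] at hz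
      norm_num at hz
    have hz2 : ((z : ↥Gh) : GL (Fin 3) F) * ((z : ↥Gh) : GL (Fin 3) F) = 1 := by
      have := pow_orderOf_eq_one z
      rw [hz, pow_two] at this
      have h1 := congrArg (fun t : commutator ↥Gh => ((t : ↥Gh) : GL (Fin 3) F)) this
      simpa using h1
    rcases involution_cases hz2 hzG (mem_sl_iff.1 (O.sl (z : ↥Gh).2)) with ⟨h0, -⟩ | ⟨-, c, φ, hφ, hzc⟩
    · exact h2 h0
    · have hfz := hfix z z.2
      rw [hzc, hml_apply hφ] at hfz
      have hcv : φ v • c = (2 : F) • v := by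
        rw [two_smul]
        linear_combination (norm := module) hfz
      have hφv : φ v ≠ 0 := fun h => hv0 ((smul_eq_zero.1 (by rw [← hcv, h, zero_smul])).resolve_left h2)
      have hs := hscal (z : ↥Gh) (-1) (fun x => by
        rw [hzc, hml_apply hφ, neg_one_smul, sub_neg_eq_add, neg_add_eq_sub, sub_add_cancel]
        refine Submodule.mem_span_singleton.2 ⟨φ x * (φ v)⁻¹ * 2, ?_⟩
        rw [mul_smul, ← hcv, smul_smul, mul_assoc, inv_mul_cancel₀ hφv, mul_one])
      obtain ⟨l, -, -, hl⟩ := app_of_mem_scalars hs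
      have hl1 : l = 1 := inj (by rw [← hl, hfix z z.2, one_smul])
      exact hzG (gl_ext fun x => by rw [hl, hl1, one_smul, map_one]; rfl)
  · haveI : Finite (commutator ↥Gh) := inferInstance
    haveI := OddOrderTheorem.solvable_of_card _ (commutator ↥Gh) rfl hodd
    have hbot : (commutator ↥Gh).map O.π = ⊥ :=
      hrad _ ((commutator ↥Gh).normal_of_characteristic.map O.π O.surj)
        (Group.isSolvable_of_surjective (O.π.subgroupMap_surjective (commutator ↥Gh)))
    rw [commutator_def, Subgroup.map_commutator, Subgroup.map_top_of_surjective _ O.surj] at hbot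
    have htop : (⊤ : Subgroup H) = ⊥ := hrad ⊤ inferInstance (Group.isSolvable_of_comm fun a b => by
      refine Subtype.ext ?_
      have h1 : ⁅(a : H), (b : H)⁆ ∈ (⊥ : Subgroup H) :=
        hbot ▸ Subgroup.commutator_mem_commutator (Subgroup.mem_top _) (Subgroup.mem_top _)
      exact commutatorElement_eq_one_iff_mul_comm.1 (Subgroup.mem_bot.1 h1))
    exact top_ne_bot htop

/-- **Irreducibility.** -/
theorem Over.irred [Finite F] (h2 : (2 : F) ≠ 0) (O : Over H Gh)
    (hrad : ThreeTransRank.TrivialRadical H) (hH : Nontrivial H) : Irred Gh :=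
  irred_of_not_eig (O.not_eig h2 hrad hH) (O.dual.not_eig h2 hrad hH)

end Cfsg.Agent.Mitchell.Almost
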