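/-
The socle of a subgroup of `PSL₃` with trivial radical is simple.
Main results:
* `Over.exists_socle` : a simple non-abelian normal subgroup with trivial centraliser
* `Over.restrict` : the preimage of a subgroup
-/
import Cfsg.Agent.Lib.Mitchell.Almost.Radical
import Cfsg.Agent.Lib.Mitchell.Free.Setup

set_option autoImplicit false
set_option linter.unusedSectionVars false
set_option linter.style.haveILetI false

namespace Cfsg.Agent.Mitchell.Almost

open Matrix Cfsg.Agent.SL3Max Cfsg.Agent.Transvect Cfsg.Agent.Mitchell.Transv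
open scoped commutatorElement

universe u v

variable {F : Type u} [Field F] {H : Type v} [Group H] {Gh : Subgroup (GL (Fin 3) F)}

/-- The preimage of a subgroup. -/
def Over.pre (O : Over H Gh) (N : Subgroup H) : Subgroup (GL (Fin 3) F) :=
  (N.comap O.π).map Gh.subtype

variable (O : Over H Gh)

lemma Over.pre_le (N : Subgroup H) : O.pre N ≤ Gh := by
  rintro _ ⟨g, -, rfl⟩
  exact g.2

lemma Over.mem_pre {N : Subgroup H} {g : ↥Gh} : (g : GL (Fin 3) F) ∈ O.pre N ↔ O.π g ∈ N := by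
  constructor
  · rintro ⟨g', hg', he⟩
    rw [Subgroup.subtype_apply, SetLike.coe_eq_coe] at he
    exact he ▸ hg'
  · intro h
    exact ⟨g, h, rfl⟩

lemma Over.exists_pre {N : Subgroup H} {x : H} (hx : x ∈ N) :
    ∃ g : ↥Gh, (g : GL (Fin 3) F) ∈ O.pre N ∧ O.π g = x := by
  obtain ⟨g, rfl⟩ := O.surj x
  exact ⟨g, O.mem_pre.2 hx, rfl⟩

lemma Over.conj_mem_pre {N M : Subgroup H} (h : ∀ m ∈ M, ∀ n ∈ N, m * n * m⁻¹ ∈ N) :
    ∀ g ∈ O.pre M, ∀ a ∈ O.pre N, g * a * g⁻¹ ∈ O.pre N := by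
  rintro _ ⟨g, hg, rfl⟩ _ ⟨a, ha, rfl⟩
  have : (((g * a * g⁻¹ : ↥Gh)) : GL (Fin 3) F) ∈ O.pre N := O.mem_pre.2 (by
    rw [map_mul, map_mul, map_inv]; exact h _ hg _ ha)
  simpa using this

lemma Over.pre_not_abelian {N : Subgroup H} (h : ¬ ∀ a ∈ N, ∀ b ∈ N, a * b = b * a) :
    ¬ ∀ a ∈ O.pre N, ∀ b ∈ O.pre N, a * b = b * a := by
  intro hab
  refine h fun a ha b hb => ?_
  obtain ⟨x, hx, rfl⟩ := O.exists_pre ha
  obtain ⟨y, hy, rfl⟩ := O.exists_pre hb
  rw [← map_mul, ← map_mul]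
  exact congrArg O.π (Subtype.ext (hab _ hx _ hy))

/-- A commutator of elements commuting with `a` modulo scalars commutes with `a`. -/
lemma comm_of_scalar {x y a : GL (Fin 3) F} (hx : x * a * x⁻¹ * a⁻¹ ∈ Cfsg.Geo.scalars (Fin 3) F)
    (hy : y * a * y⁻¹ * a⁻¹ ∈ Cfsg.Geo.scalars (Fin 3) F) : ⁅x, y⁆ * a = a * ⁅x, y⁆ := by
  set s := x * a * x⁻¹ * a⁻¹ with hs
  set t := y * a * y⁻¹ * a⁻¹ with ht
  have cx : x * a * x⁻¹ = s * a := by rw [hs]; group
  have cy : y * a * y⁻¹ = t * a := by rw [ht]; group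
  have cy' : y⁻¹ * a * y = t⁻¹ * a := by
    have h1 : t⁻¹ * (y * a * y⁻¹) = a := by rw [cy, inv_mul_cancel_left]
    have h2 : y⁻¹ * (t⁻¹ * (y * a * y⁻¹)) * y = y⁻¹ * a * y := by rw [h1]
    rw [← h2, show y⁻¹ * (t⁻¹ * (y * a * y⁻¹)) * y = (y⁻¹ * t⁻¹) * y * a by group,
      ← scalar_central (inv_mem hy) y⁻¹]
    group
  have cx' : x⁻¹ * a * x = s⁻¹ * a := by
    have h1 : s⁻¹ * (x * a * x⁻¹) = a := by rw [cx, inv_mul_cancel_left]
    have h2 : x⁻¹ * (s⁻¹ * (x * a * x⁻¹)) * x = x⁻¹ * a * x := by rw [h1]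
    rw [← h2, show x⁻¹ * (s⁻¹ * (x * a * x⁻¹)) * x = (x⁻¹ * s⁻¹) * x * a by group,
      ← scalar_central (inv_mem hx) x⁻¹]
    group
  have key : ⁅x, y⁆ * a * ⁅x, y⁆⁻¹ = a := by
    have e : ⁅x, y⁆ * a * ⁅x, y⁆⁻¹ = x * (y * (x⁻¹ * (y⁻¹ * a * y) * x) * y⁻¹) * x⁻¹ := by
      rw [commutatorElement_def]; group
    rw [e, cy', show x⁻¹ * (t⁻¹ * a) * x = (x⁻¹ * t⁻¹) * a * x by group, ← scalar_central (inv_mem hy) x⁻¹,
      show t⁻¹ * x⁻¹ * a * x = t⁻¹ * (x⁻¹ * a * x) by group, cx',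
      show y * (t⁻¹ * (s⁻¹ * a)) * y⁻¹ = (y * (t⁻¹ * s⁻¹)) * a * y⁻¹ by group,
      ← scalar_central (mul_mem (inv_mem hy) (inv_mem hx)) y,
      show t⁻¹ * s⁻¹ * y * a * y⁻¹ = t⁻¹ * s⁻¹ * (y * a * y⁻¹) by group, cy,
      show t⁻¹ * s⁻¹ * (t * a) = t⁻¹ * (s⁻¹ * t) * a by group, scalar_central (inv_mem hx) t,
      inv_mul_cancel_left, show x * (s⁻¹ * a) * x⁻¹ = (x * s⁻¹) * a * x⁻¹ by group,
      ← scalar_central (inv_mem hx) x, show s⁻¹ * x * a * x⁻¹ = s⁻¹ * (x * a * x⁻¹) by group, cx,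
      inv_mul_cancel_left]
  calc ⁅x, y⁆ * a = (⁅x, y⁆ * a * ⁅x, y⁆⁻¹) * ⁅x, y⁆ := by group
    _ = _ := by rw [key]

/-- A perfect subgroup commuting with a non-abelian subgroup normalised by an irreducible one is trivial. -/
theorem Over.eq_bot_of_commute [Finite F] {N T U : Subgroup H} (hirr : Irred (O.pre N))
    (hU : ∀ n ∈ N, ∀ u ∈ U, n * u * n⁻¹ ∈ U) (hUab : ¬ ∀ a ∈ U, ∀ b ∈ U, a * b = b * a)
    (hT : ⁅T, T⁆ = T) (hcomm : ∀ t ∈ T, ∀ u ∈ U, t * u = u * t) : T = ⊥ := by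
  haveI : Finite H := Finite.of_surjective O.π O.surj
  have hUi : Irred (O.pre U) := irred_of_normal hirr (O.conj_mem_pre hU) (O.pre_not_abelian hUab)
  have hscal : ∀ x ∈ O.pre T, ∀ a ∈ O.pre U, x * a * x⁻¹ * a⁻¹ ∈ Cfsg.Geo.scalars (Fin 3) F := by
    rintro _ ⟨x, hx, rfl⟩ _ ⟨a, ha, rfl⟩
    have h1 : O.π (x * a * x⁻¹ * a⁻¹) = 1 := by
      rw [map_mul, map_mul, map_mul, map_inv, map_inv, hcomm _ hx _ ha]; group
    simpa using (O.ker_iff _).1 h1
  have hab : ∀ p ∈ ⁅T, T⁆, ∀ q ∈ ⁅T, T⁆, p * q = q * p := by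
    have hlift : ∀ p ∈ ⁅T, T⁆, ∃ g : ↥Gh, O.π g = p ∧ ∀ a ∈ O.pre U,
        (g : GL (Fin 3) F) * a = a * g := by
      intro p hp
      rw [Subgroup.commutator_def] at hp
      induction hp using Subgroup.closure_induction with
      | mem p hp =>
        obtain ⟨s, hs, t, ht, rfl⟩ := hp
        obtain ⟨x, hx, rfl⟩ := O.exists_pre hs
        obtain ⟨y, hy, rfl⟩ := O.exists_pre ht
        refine ⟨⁅x, y⁆, map_commutatorElement O.π x y, fun a ha => ?_⟩
        have e : ((⁅x, y⁆ : ↥Gh) : GL (Fin 3) F) = ⁅(x : GL (Fin 3) F), (y : GL (Fin 3) F)⁆ :=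
          map_commutatorElement Gh.subtype x y
        rw [e]
        exact comm_of_scalar (hscal _ hx a ha) (hscal _ hy a ha)
      | one => exact ⟨1, map_one _, fun a _ => by simp⟩
      | mul p q _ _ hp hq =>
        obtain ⟨g, rfl, hg⟩ := hp
        obtain ⟨h, rfl, hh⟩ := hq
        exact ⟨g * h, map_mul _ _ _, fun a ha => by
          rw [Subgroup.coe_mul, mul_assoc, hh a ha, ← mul_assoc, hg a ha, mul_assoc]⟩
      | inv p _ hp =>
        obtain ⟨g, rfl, hg⟩ := hp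
        exact ⟨g⁻¹, map_inv _ _, fun a ha => by
          rw [Subgroup.coe_inv, inv_mul_eq_iff_eq_mul, ← mul_assoc, hg a ha, mul_inv_cancel_right]⟩
    intro p hp q hq
    obtain ⟨g, rfl, hg⟩ := hlift p hp
    obtain ⟨h, rfl, hh⟩ := hlift q hq
    rw [← map_mul, ← map_mul]
    exact congrArg O.π (Subtype.ext (commute_of_centralize hUi hg hh))
  rw [hT] at hab
  rw [eq_bot_iff, ← hT, Subgroup.commutator_le]
  intro a ha b hb
  rw [Subgroup.mem_bot, commutatorElement_eq_one_iff_mul_comm]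
  exact hab a ha b hb

/-- **The socle.** -/
theorem Over.exists_socle [Finite F] (hirr : Irred Gh) (hrad : ThreeTransRank.TrivialRadical H)
    (hH : Nontrivial H) :
    ∃ S : Subgroup H, S.Normal ∧ IsSimpleGroup ↥S ∧ (¬ ∀ a ∈ S, ∀ b ∈ S, a * b = b * a) ∧
      Irred (O.pre S) ∧ ∀ h : H, (∀ s ∈ S, h * s = s * h) → h = 1 := by
  classical
  haveI : Finite H := Finite.of_surjective O.π O.surj
  have htop : Irred (O.pre ⊤) := by
    convert hirr using 1
    exact le_antisymm (O.pre_le ⊤) fun g hg => O.mem_pre (g := ⟨g, hg⟩) |>.2 trivial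
  have hperf : ∀ {U : Subgroup H}, U.Normal → U ≠ ⊥ →
      (∀ W : Subgroup H, W.Normal → W ≤ U → W ≠ ⊥ → W = U) →
      ⁅U, U⁆ = U ∧ ¬ ∀ a ∈ U, ∀ b ∈ U, a * b = b * a := by
    intro U hU hUne hmin
    have hnab : ¬ ∀ a ∈ U, ∀ b ∈ U, a * b = b * a := fun h =>
      hUne (ThreeTransRank.abelian_normal_normal_eq_bot hrad U U le_rfl (fun n _ l hl => hU.conj_mem l hl n) h)
    refine ⟨hmin _ inferInstance (Subgroup.commutator_le_left U U) fun h => hnab fun a ha b hb => ?_, hnab⟩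
    exact commutatorElement_eq_one_iff_mul_comm.1
      (Subgroup.mem_bot.1 (h ▸ Subgroup.commutator_mem_commutator ha hb))
  obtain ⟨S, hSn, -, hS, hmin⟩ := FittingLength.exists_minimal_normal (D := (⊤ : Subgroup H)) top_ne_bot
  obtain ⟨hSp, hSab⟩ := hperf hSn hS hmin
  have hSi : Irred (O.pre S) :=
    irred_of_normal htop (O.conj_mem_pre fun m _ n hn => hSn.conj_mem n hn m) (O.pre_not_abelian hSab)
  refine ⟨S, hSn, ?_, hSab, hSi, fun h hh => ?_⟩
  · -- simplicity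
    obtain ⟨T, ⟨hTS, hTn, hT⟩, hTmin⟩ := exists_minimal_of_wellFoundedLT
      (fun T : Subgroup H => T ≤ S ∧ (∀ s ∈ S, ∀ t ∈ T, s * t * s⁻¹ ∈ T) ∧ T ≠ ⊥)
      ⟨S, le_rfl, fun s hs t ht => S.mul_mem (S.mul_mem hs ht) (S.inv_mem hs), hS⟩
    have hTmin' : ∀ W : Subgroup H, W ≤ T → (∀ s ∈ S, ∀ t ∈ W, s * t * s⁻¹ ∈ W) → W = ⊥ ∨ W = T :=
      fun W hW hWn => or_iff_not_imp_left.2 fun hne =>
        le_antisymm hW (hTmin ⟨hW.trans hTS, hWn, hne⟩ hW)
    have hTab : ¬ ∀ a ∈ T, ∀ b ∈ T, a * b = b * a := fun h =>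
      hT (ThreeTransRank.abelian_normal_normal_eq_bot hrad S T hTS hTn h)
    have hTp : ⁅T, T⁆ = T := by
      rcases hTmin' ⁅T, T⁆ (Subgroup.commutator_le.2 fun a ha b hb =>
          T.mul_mem (T.mul_mem (T.mul_mem ha hb) (T.inv_mem ha)) (T.inv_mem hb)) (fun s hs t ht => by
        have e : T.map (MulAut.conj s).toMonoidHom ≤ T := by
          rintro _ ⟨l, hl, rfl⟩
          exact hTn s hs l hl
        have h1 := Subgroup.map_commutator T T (MulAut.conj s).toMonoidHom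
        exact Subgroup.commutator_mono e e (h1 ▸ ⟨t, ht, rfl⟩)) with h | h
      · exact absurd (fun a ha b hb => commutatorElement_eq_one_iff_mul_comm.1
          (Subgroup.mem_bot.1 (h ▸ Subgroup.commutator_mem_commutator ha hb))) hTab
      · exact h
    have hconj : ∀ g : H, T.map (MulAut.conj g).toMonoidHom = T := by
      intro g
      set T' := T.map (MulAut.conj g).toMonoidHom with hT'
      have hT'S : T' ≤ S := by
        rintro _ ⟨t, ht, rfl⟩
        exact hSn.conj_mem t (hTS ht) g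
      have hT'n : ∀ s ∈ S, ∀ t ∈ T', s * t * s⁻¹ ∈ T' := by
        rintro s hs _ ⟨t, ht, rfl⟩
        exact ⟨_, hTn (g⁻¹ * s * g) (by simpa using hSn.conj_mem s hs g⁻¹) t ht, by simp [mul_assoc]⟩
      rcases hTmin' (T ⊓ T') inf_le_left (fun s hs t ht => ⟨hTn s hs t ht.1, hT'n s hs t ht.2⟩) with h | h
      · exfalso
        have hcomm : ∀ t ∈ T', ∀ u ∈ T, t * u = u * t := fun t ht u hu => by
          have h1 : t * u * t⁻¹ * u⁻¹ ∈ T ⊓ T' := by
            refine ⟨T.mul_mem (hTn t (hT'S ht) u hu) (T.inv_mem hu), ?_⟩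
            rw [show t * u * t⁻¹ * u⁻¹ = t * (u * t⁻¹ * u⁻¹) by group]
            exact T'.mul_mem ht (hT'n u (hTS hu) _ (T'.inv_mem ht))
          rw [h, Subgroup.mem_bot] at h1
          exact commutatorElement_eq_one_iff_mul_comm.1 (by rw [commutatorElement_def]; exact h1)
        have hT'p : ⁅T', T'⁆ = T' := by rw [hT', ← Subgroup.map_commutator, hTp]
        exact hT ((Subgroup.map_eq_bot_iff_of_injective _ (MulAut.conj g).injective).1
          (O.eq_bot_of_commute hSi hTn hTab hT'p hcomm))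
      · refine (Subgroup.eq_of_le_of_card_ge (h ▸ inf_le_right) ?_).symm
        rw [hT', Subgroup.card_map_of_injective (MulAut.conj g).injective]
    have hTnor : T.Normal := ⟨fun t ht g => hconj g ▸ ⟨t, ht, rfl⟩⟩
    have hTS' : T = S := hmin T hTnor hTS hT
    haveI : Nontrivial S := (Subgroup.nontrivial_iff_ne_bot S).2 hS
    refine ⟨fun M hM => ?_⟩
    rcases hTmin' (M.map S.subtype) (hTS' ▸ Subgroup.map_subtype_le M) (fun s hs t ht => by
      obtain ⟨m, hm, rfl⟩ := ht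
      exact ⟨_, hM.conj_mem m hm ⟨s, hs⟩, rfl⟩) with h | h
    · exact Or.inl ((Subgroup.map_eq_bot_iff_of_injective _ S.subtype_injective).1 h)
    · refine Or.inr (Subgroup.map_injective S.subtype_injective ?_)
      rw [h, hTS', ← MonoidHom.range_eq_map, Subgroup.range_subtype]
  · -- centraliser
    by_contra h1
    let C : Subgroup H := Subgroup.centralizer (S : Set H)
    haveI : C.Normal := inferInstanceAs (Subgroup.centralizer (S : Set H)).Normal
    have hC : C ≠ ⊥ := fun hb => h1 (by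
      rw [← Subgroup.mem_bot, ← hb]
      exact Subgroup.mem_centralizer_iff.2 fun s hs => (hh s hs).symm)
    obtain ⟨U, hUn, hUC, hUne, hUmin⟩ := FittingLength.exists_minimal_normal (D := C) hC
    obtain ⟨hUp, -⟩ := hperf hUn hUne hUmin
    exact hUne (O.eq_bot_of_commute htop (fun n _ u hu => hSn.conj_mem u hu n) hSab hUp
      (fun t ht s hs => (Subgroup.mem_centralizer_iff.1 (hUC ht) s hs).symm))

/-- The preimage of a subgroup, as a group over it. -/
noncomputable def Over.restrict (N : Subgroup H) : Over ↥N (O.pre N) :=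
  let f : ↥(O.pre N) →* ↥N :=
    MonoidHom.mk' (fun g => ⟨O.π ⟨g.1, O.pre_le N g.2⟩, O.mem_pre.1 g.2⟩) fun a b =>
      Subtype.ext (map_mul O.π ⟨a.1, O.pre_le N a.2⟩ ⟨b.1, O.pre_le N b.2⟩)
  { π := f
    surj := fun x => by
      obtain ⟨g, hg, hgx⟩ := O.exists_pre x.2
      exact ⟨⟨g, hg⟩, Subtype.ext hgx⟩
    ker_iff := fun g => by
      rw [Subtype.ext_iff]
      exact O.ker_iff _
    sl := (O.pre_le N).trans O.sl
    hz := fun g hg => O.mem_pre (g := ⟨g, O.hz hg⟩) |>.2 (by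
      rw [(O.ker_iff ⟨g, O.hz hg⟩).2 hg.1]; exact N.one_mem) }

/-- A group over `H` modulo scalars is `H`. -/
noncomputable def Over.sqEquiv : Sq Gh ≃* H :=
  (QuotientGroup.quotientMulEquivOfEq (show (Cfsg.Geo.scalars (Fin 3) F).subgroupOf Gh = O.π.ker by
    ext g; rw [Subgroup.mem_subgroupOf, MonoidHom.mem_ker, O.ker_iff])).trans
    (QuotientGroup.quotientKerEquivOfSurjective O.π O.surj)

end Cfsg.Agent.Mitchell.Almost
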