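/-
Groups between `PSL₃(K)` or `PSU₃` and their diagonal automorphisms inside `PSL₃(F)`.
Main results:
* `index_three` : the index is one or three, with a cube root outside the field
* `socle_equiv` : the socle
-/
import Cfsg.Agent.Lib.Mitchell.Almost.Socle
import Cfsg.Agent.Lib.Mitchell.Almost.Field

set_option autoImplicit false
set_option linter.unusedSectionVars false
set_option linter.style.haveILetI false

namespace Cfsg.Agent.Mitchell.Almost

open Matrix Cfsg.Agent.SL3Max Cfsg.Agent.Transvect Cfsg.Agent.Mitchell.Transv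

universe u v

variable {F : Type u} [Field F] {H : Type v} [Group H] {Gh : Subgroup (GL (Fin 3) F)} {K : Subfield F}

lemma scalar_mem (s : Fˣ) : GeneralLinearGroup.scalar (Fin 3) s ∈ Cfsg.Geo.scalars (Fin 3) F := by
  rw [Cfsg.Geo.mem_scalars_iff]
  refine ⟨s, ?_⟩
  rw [GeneralLinearGroup.coe_scalar]
  ext i j
  simp [Matrix.diagonal_apply, Matrix.one_apply]

lemma embGL_apply (P : GL (Fin 3) F) (k : GL (Fin 3) K) :
    embGL K P k = P * Matrix.GeneralLinearGroup.map K.subtype k * P⁻¹ := rfl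

lemma embK_def (P : GL (Fin 3) F) (X : Matrix.SpecialLinearGroup (Fin 3) K) :
    embK K P X = P * Matrix.SpecialLinearGroup.toGL (Matrix.SpecialLinearGroup.map K.subtype X) * P⁻¹ := rfl

lemma embK_eq (P : GL (Fin 3) F) (X : Matrix.SpecialLinearGroup (Fin 3) K) :
    embK K P X = embGL K P (Matrix.SpecialLinearGroup.toGL X) := by
  rw [embK_def, embGL_apply]
  congr 2
  exact Units.ext rfl

lemma map_scalar (c : Kˣ) :
    Matrix.GeneralLinearGroup.map K.subtype (GeneralLinearGroup.scalar (Fin 3) c) =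
      GeneralLinearGroup.scalar (Fin 3) (Units.map K.subtype.toMonoidHom c) := by
  refine Units.ext ?_
  show ((GeneralLinearGroup.scalar (Fin 3) c : GL (Fin 3) K) : Matrix (Fin 3) (Fin 3) K).map K.subtype = _
  rw [GeneralLinearGroup.coe_scalar, GeneralLinearGroup.coe_scalar, Matrix.scalar_apply, Matrix.scalar_apply,
    Matrix.diagonal_map (map_zero _)]
  rfl

lemma scalar_rational {P : GL (Fin 3) F} {k : GL (Fin 3) K} {t : Fˣ}
    (h : embGL K P k = GeneralLinearGroup.scalar (Fin 3) t) :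
    ∃ c : Kˣ, Units.map K.subtype.toMonoidHom c = t ∧ k = GeneralLinearGroup.scalar (Fin 3) c := by
  have h1 : Matrix.GeneralLinearGroup.map K.subtype k = GeneralLinearGroup.scalar (Fin 3) t := by
    rw [embGL_apply] at h
    calc Matrix.GeneralLinearGroup.map K.subtype k = P⁻¹ * GeneralLinearGroup.scalar (Fin 3) t * P := by
          rw [← h]; group
      _ = _ := by rw [mul_assoc, scalar_central (scalar_mem t) P, inv_mul_cancel_left]
  have hm : ∀ i j, (((k : Matrix (Fin 3) (Fin 3) K) i j : K) : F) = if i = j then (t : F) else 0 := fun i j => by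
    have h2 := congrArg (fun x : GL (Fin 3) F => (x : Matrix (Fin 3) (Fin 3) F) i j) h1
    simp only [GeneralLinearGroup.coe_scalar, Matrix.scalar_apply, Matrix.diagonal_apply] at h2
    exact h2
  have h00 : (k : Matrix (Fin 3) (Fin 3) K) 0 0 ≠ 0 := fun h0 => t.ne_zero (by
    have h2 := hm 0 0
    rw [if_pos rfl, h0] at h2
    exact h2.symm)
  refine ⟨Units.mk0 _ h00, Units.ext ?_, Units.ext ?_⟩
  · have h2 := hm 0 0
    rw [if_pos rfl] at h2
    exact h2
  · rw [GeneralLinearGroup.coe_scalar, Matrix.scalar_apply]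
    ext i j
    rw [hm, Matrix.diagonal_apply]
    split
    · exact (by have h2 := hm 0 0; rw [if_pos rfl] at h2; exact h2.symm)
    · rfl

variable [Finite F] (O : Over H Gh) (S : Subgroup H) [S.Normal] (P : GL (Fin 3) F) (Q : Subgroup (GL (Fin 3) K))

/-- **The index.** -/
theorem index_three (hdet : ∀ k ∈ Q, GeneralLinearGroup.scalar (Fin 3) (GeneralLinearGroup.det k) ∈ Q)
    (hdec : ∀ g ∈ Gh, ∃ (s : Fˣ) (k : GL (Fin 3) K), k ∈ Q ∧ g = GeneralLinearGroup.scalar (Fin 3) s * embGL K P k)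
    (hM : ∀ g : ↥Gh, O.π g ∈ S ↔ ∃ X : Matrix.SpecialLinearGroup (Fin 3) K,
      Matrix.SpecialLinearGroup.toGL X ∈ Q ∧ (g : GL (Fin 3) F) * (embK K P X)⁻¹ ∈ Cfsg.Geo.scalars (Fin 3) F) :
    S = ⊤ ∨ (S.index = 3 ∧ ∃ (s : Fˣ) (u : Kˣ), GeneralLinearGroup.scalar (Fin 3) u ∈ Q ∧
      s ^ 3 = Units.map K.subtype.toMonoidHom u ∧
      ∀ v : Kˣ, GeneralLinearGroup.scalar (Fin 3) v ∈ Q → (s / Units.map K.subtype.toMonoidHom v) ^ 3 ≠ 1) := by
  classical
  haveI : Finite H := Finite.of_surjective O.π O.surj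
  let U : Subgroup Kˣ := Q.comap (GeneralLinearGroup.scalar (Fin 3))
  let A : Subgroup Fˣ := U.map (Units.map K.subtype.toMonoidHom) ⊔ (powMonoidHom 3 : Fˣ →* Fˣ).ker
  have hU : ∀ u : Kˣ, u ∈ U ↔ GeneralLinearGroup.scalar (Fin 3) u ∈ Q := fun u => Iff.rfl
  have hA : ∀ x : Fˣ, x ∈ A ↔ ∃ v : Kˣ, v ∈ U ∧ (x / Units.map K.subtype.toMonoidHom v) ^ 3 = 1 := by
    intro x
    rw [Subgroup.mem_sup]
    constructor
    · rintro ⟨_, ⟨v, hv, rfl⟩, w, hw, rfl⟩
      refine ⟨v, hv, ?_⟩
      rw [mul_div_cancel_left]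
      exact hw
    · rintro ⟨v, hv, hx⟩
      exact ⟨_, ⟨v, hv, rfl⟩, x / Units.map K.subtype.toMonoidHom v, hx, mul_div_cancel _ _⟩
  choose s k hk hg using fun g : ↥Gh => hdec g g.2
  have huniq : ∀ (g : ↥Gh) (t : Fˣ) (l : GL (Fin 3) K), l ∈ Q →
      (g : GL (Fin 3) F) = GeneralLinearGroup.scalar (Fin 3) t * embGL K P l → (s g)⁻¹ * t ∈ A := by
    intro g t l hl he
    have h1 : embGL K P (k g * l⁻¹) = GeneralLinearGroup.scalar (Fin 3) ((s g)⁻¹ * t) := by
      rw [map_mul, map_inv, map_mul, map_inv, mul_inv_eq_iff_eq_mul, mul_assoc, eq_inv_mul_iff_mul_eq,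
        ← hg g, ← he]
    obtain ⟨c, hc, hkc⟩ := scalar_rational h1
    refine (hA _).2 ⟨c, ?_, by rw [hc, div_self', one_pow]⟩
    rw [hU, ← hkc]
    exact Q.mul_mem (hk g) (Q.inv_mem hl)
  have hmul : ∀ g h : ↥Gh, (s (g * h))⁻¹ * (s g * s h) ∈ A := fun g h =>
    huniq (g * h) _ (k g * k h) (Q.mul_mem (hk g) (hk h)) (by
      rw [Subgroup.coe_mul, hg g, hg h, map_mul (GeneralLinearGroup.scalar (Fin 3)), map_mul]
      rw [mul_assoc, ← mul_assoc (embGL K P (k g)), ← scalar_central (scalar_mem (s h)) (embGL K P (k g))]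
      simp only [mul_assoc])
  have hdet3 : ∀ g : ↥Gh, s g ^ 3 = (Units.map K.subtype.toMonoidHom (GeneralLinearGroup.det (k g)))⁻¹ := by
    intro g
    refine eq_inv_of_mul_eq_one_left (Units.ext ?_)
    have h1 := mem_sl_iff.1 (O.sl g.2)
    rw [hg g, Units.val_mul, Matrix.det_mul, GeneralLinearGroup.coe_scalar, Matrix.scalar_apply,
      det_diagonal, embGL_apply, Units.val_mul, Units.val_mul, Matrix.det_units_conj] at h1
    rw [Units.val_mul, Units.val_pow_eq_pow_val, Units.val_one]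
    simp only [Fin.prod_const] at h1
    convert h1 using 2
    show K.subtype ((k g : Matrix (Fin 3) (Fin 3) K).det) = _
    rw [RingHom.map_det]
    rfl
  have hs3 : ∀ g, s g ^ 3 ∈ A := fun g => by
    rw [hdet3 g]
    exact inv_mem (Subgroup.mem_sup_left ⟨_, hdet _ (hk g), rfl⟩)
  have hker : ∀ g, s g ∈ A ↔ O.π g ∈ S := by
    intro g
    constructor
    · intro h
      obtain ⟨v, hv, hv3⟩ := (hA _).1 h
      set w := s g / Units.map K.subtype.toMonoidHom v with hw
      have hsg : s g = w * Units.map K.subtype.toMonoidHom v := (div_mul_cancel _ _).symm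
      have hd : GeneralLinearGroup.det (GeneralLinearGroup.scalar (Fin 3) v * k g) = 1 := by
        refine (Units.map_injective (f := K.subtype.toMonoidHom) K.subtype.injective) ?_
        have h1 := hdet3 g
        rw [hsg, mul_pow, hv3, one_mul, ← map_pow] at h1
        have h2 : GeneralLinearGroup.det (GeneralLinearGroup.scalar (Fin 3) v) = v ^ 3 := by
          refine Units.ext ?_
          simp [Matrix.det_diagonal]
        rw [map_mul GeneralLinearGroup.det, h2, map_mul, h1, inv_mul_cancel, map_one]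
      let X : Matrix.SpecialLinearGroup (Fin 3) K :=
        ⟨((GeneralLinearGroup.scalar (Fin 3) v * k g : GL (Fin 3) K) : Matrix (Fin 3) (Fin 3) K),
          congrArg Units.val hd⟩
      have hX : Matrix.SpecialLinearGroup.toGL X = GeneralLinearGroup.scalar (Fin 3) v * k g := Units.ext rfl
      refine (hM g).2 ⟨X, ?_, ?_⟩
      · rw [hX]
        exact Q.mul_mem hv (hk g)
      · have e : (g : GL (Fin 3) F) = GeneralLinearGroup.scalar (Fin 3) w * embK K P X := by
          rw [embK_eq, hX, map_mul (embGL K P), show embGL K P (GeneralLinearGroup.scalar (Fin 3) v) =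
            GeneralLinearGroup.scalar (Fin 3) (Units.map K.subtype.toMonoidHom v) by
              rw [embGL_apply, map_scalar, ← scalar_central (scalar_mem _) P, mul_inv_cancel_right],
            ← mul_assoc, ← map_mul, ← hsg]
          exact hg g
        rw [e, mul_inv_cancel_right]
        exact scalar_mem w
    · intro h
      obtain ⟨X, hX, hz⟩ := (hM g).1 h
      obtain ⟨c, hc⟩ := (Cfsg.Geo.mem_scalars_iff _).1 hz
      have e : (g : GL (Fin 3) F) = GeneralLinearGroup.scalar (Fin 3) c * embK K P X := by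
        rw [← inv_mul_cancel_right (g : GL (Fin 3) F) (embK K P X)]
        congr 1
        refine Units.ext ?_
        rw [hc, GeneralLinearGroup.coe_scalar, Matrix.scalar_apply, ← Matrix.smul_one_eq_diagonal]
      have hc3 : c ^ 3 = 1 := by
        refine Units.ext ?_
        have h1 := mem_sl_iff.1 (O.sl g.2)
        rw [e, Units.val_mul, Matrix.det_mul, GeneralLinearGroup.coe_scalar, Matrix.scalar_apply,
          det_diagonal, embK_def, Units.val_mul, Units.val_mul, Matrix.det_units_conj] at h1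
        simp only [Fin.prod_const] at h1
        rw [show ((Matrix.SpecialLinearGroup.toGL (Matrix.SpecialLinearGroup.map K.subtype X) :
          GL (Fin 3) F) : Matrix (Fin 3) (Fin 3) F).det = 1 from
          (Matrix.SpecialLinearGroup.map K.subtype X).2, mul_one] at h1
        simpa using h1
      have hsc := huniq g c _ hX (by rw [← embK_eq]; exact e)
      have hcA : c ∈ A := Subgroup.mem_sup_right hc3
      have := A.mul_mem hcA (A.inv_mem hsc)
      rwa [_root_.mul_inv_rev, inv_inv, mul_inv_cancel_left] at this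
  let f : ↥Gh →* Fˣ ⧸ A := MonoidHom.mk' (fun g => (QuotientGroup.mk (s g) : Fˣ ⧸ A)) fun g h => by
    rw [← QuotientGroup.mk_mul, QuotientGroup.eq]
    exact hmul g h
  have hkf : f.ker = S.comap O.π := by
    ext g
    rw [MonoidHom.mem_ker, Subgroup.mem_comap, ← hker]
    exact QuotientGroup.eq_one_iff (s g)
  have hidx : S.index = Nat.card f.range := by
    rw [← Subgroup.index_ker, hkf, Subgroup.index_comap_of_surjective S O.surj]
  haveI : Finite Fˣ := inferInstance
  haveI : IsCyclic (Fˣ ⧸ A) := isCyclic_of_surjective (QuotientGroup.mk' A) (QuotientGroup.mk'_surjective A)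
  haveI : IsCyclic f.range := Subgroup.isCyclic f.range
  have hd : Nat.card f.range ∣ 3 := by
    rw [← IsCyclic.exponent_eq_card, Monoid.exponent_dvd_iff_forall_pow_eq_one]
    rintro ⟨_, g, rfl⟩
    refine Subtype.ext ?_
    show (QuotientGroup.mk (s g) : Fˣ ⧸ A) ^ 3 = 1
    rw [← QuotientGroup.mk_pow, QuotientGroup.eq_one_iff]
    exact hs3 g
  rcases (Nat.dvd_prime Nat.prime_three).1 hd with h1 | h1
  · exact Or.inl (Subgroup.index_eq_one.1 (hidx.trans h1))
  · refine Or.inr ⟨hidx.trans h1, ?_⟩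
    obtain ⟨g, hg'⟩ : ∃ g, s g ∉ A := by
      by_contra hno
      push Not at hno
      have hS : S = ⊤ := eq_top_iff.2 fun x _ => by
        obtain ⟨g, rfl⟩ := O.surj x
        exact (hker g).1 (hno g)
      rw [hS, Subgroup.index_top] at hidx
      omega
    refine ⟨s g, (GeneralLinearGroup.det (k g))⁻¹, ?_, by rw [hdet3 g, map_inv], fun v hv h3 =>
      hg' ((hA _).2 ⟨v, hv, h3⟩)⟩
    rw [map_inv]
    exact Q.inv_mem (hdet _ (hk g))

/-- **The socle.** -/
theorem socle_equiv
    (hM : ∀ g : ↥Gh, O.π g ∈ S ↔ ∃ X : Matrix.SpecialLinearGroup (Fin 3) K,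
      Matrix.SpecialLinearGroup.toGL X ∈ Q ∧ (g : GL (Fin 3) F) * (embK K P X)⁻¹ ∈ Cfsg.Geo.scalars (Fin 3) F)
    (Y : Subgroup (Matrix.SpecialLinearGroup (Fin 3) K))
    (hY : ∀ X, X ∈ Y ↔ Matrix.SpecialLinearGroup.toGL X ∈ Q) (hle : Y.map (embK K P) ≤ Gh)
    (hc : ∀ X : ↥Y, X ∈ Subgroup.center ↥Y ↔
      ∃ z : K, ((X : Matrix.SpecialLinearGroup (Fin 3) K) : Matrix (Fin 3) (Fin 3) K) = Matrix.scalar (Fin 3) z) :
    Nonempty (↥S ≃* ↥Y ⧸ Subgroup.center ↥Y) := by
  let e : ↥Y → ↥Gh := fun X => ⟨embK K P X.1, hle ⟨X.1, X.2, rfl⟩⟩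
  let φ : ↥Y →* ↥S := MonoidHom.mk' (fun X => ⟨O.π (e X), (hM (e X)).2
      ⟨X.1, (hY _).1 X.2, by show embK K P X.1 * (embK K P X.1)⁻¹ ∈ _; rw [mul_inv_cancel]; exact one_mem _⟩⟩)
    fun X X' => Subtype.ext (by
      show O.π (e (X * X')) = O.π (e X) * O.π (e X')
      rw [← map_mul]; exact congrArg O.π (Subtype.ext (map_mul (embK K P) X.1 X'.1)))
  have hφ : Function.Surjective φ := by
    rintro ⟨x, hx⟩
    obtain ⟨g, rfl⟩ := O.surj x
    obtain ⟨X, hX, hz⟩ := (hM g).1 hx
    refine ⟨⟨X, (hY X).2 hX⟩, Subtype.ext ?_⟩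
    show O.π _ = O.π g
    rw [eq_comm, ← mul_inv_eq_one, ← map_inv, ← map_mul, O.ker_iff]
    exact hz
  have hker : φ.ker = Subgroup.center ↥Y := by
    ext X
    rw [MonoidHom.mem_ker, Subtype.ext_iff, hc]
    show O.π (e X) = 1 ↔ _
    rw [O.ker_iff]
    show embK K P X.1 ∈ _ ↔ _
    constructor
    · intro h
      obtain ⟨c, hc⟩ := (Cfsg.Geo.mem_scalars_iff _).1 h
      obtain ⟨d, -, hd⟩ := scalar_rational (k := Matrix.SpecialLinearGroup.toGL X.1) (t := c) (by
        rw [← embK_eq]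
        refine Units.ext ?_
        rw [hc, GeneralLinearGroup.coe_scalar, Matrix.scalar_apply, ← Matrix.smul_one_eq_diagonal])
      refine ⟨d, ?_⟩
      have := congrArg Units.val hd
      rwa [GeneralLinearGroup.coe_scalar] at this
    · rintro ⟨z, hz⟩
      have hz0 : z ≠ 0 := fun h0 => by
        have := (X.1).2
        rw [hz, h0, map_zero, Matrix.det_zero] at this
        exact zero_ne_one this
      rw [embK_eq, show Matrix.SpecialLinearGroup.toGL X.1 = GeneralLinearGroup.scalar (Fin 3) (Units.mk0 z hz0) from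
        Units.ext (by rw [GeneralLinearGroup.coe_scalar]; exact hz), embGL_apply, map_scalar,
        ← scalar_central (scalar_mem _) P, mul_inv_cancel_right]
      exact scalar_mem _
  exact ⟨((QuotientGroup.quotientMulEquivOfEq hker.symm).trans
    (QuotientGroup.quotientKerEquivOfSurjective φ hφ)).symm⟩

end Cfsg.Agent.Mitchell.Almost
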