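/-
The socle contains elations.
Main results: `Over.elation_case`.
-/
import Cfsg.Agent.Lib.Mitchell.Almost.Twist
import Cfsg.Agent.Lib.Linear.GenTools
import Cfsg.Agent.Lib.Unitary.Small32

set_option autoImplicit false
set_option linter.unusedSectionVars false
set_option linter.style.haveILetI false

namespace Cfsg.Agent.Mitchell.Almost

open Matrix Cfsg.Agent.SL3Max Cfsg.Agent.Transvect Cfsg.Agent.Mitchell.Transv

universe u v

variable {F : Type u} [Field F] {H : Type v} [Group H] {Gh : Subgroup (GL (Fin 3) F)}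

lemma tv_nonscalar {c : V3 F} {φ : D3 F} (hc : c ≠ 0) (hφ : φ ≠ 0) (hφc : φ c = 0) :
    tv c φ ∉ Cfsg.Geo.scalars (Fin 3) F := by
  intro h
  obtain ⟨l, -, -, hl⟩ := app_of_mem_scalars h
  have h1 := hl c
  rw [tv_apply hφc, hφc, zero_smul, add_zero] at h1
  have hl1 : l = 1 := smul_left_injective F hc (by simpa using h1.symm)
  refine hφ (LinearMap.ext fun x => ?_)
  have h2 := hl x
  rw [tv_apply hφc, hl1, one_smul, add_eq_left, smul_eq_zero] at h2
  exact h2.resolve_right hc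

lemma tvSet_conj {G : Subgroup (GL (Fin 3) F)} {g : GL (Fin 3) F}
    (hg : ∀ a ∈ G, g * a * g⁻¹ ∈ G) {x : GL (Fin 3) F} (hx : x ∈ tvSet G) : g * x * g⁻¹ ∈ tvSet G := by
  obtain ⟨hxG, c, φ, hc, hφ, hφc, rfl⟩ := hx
  refine ⟨hg _ hxG, app g c, φ ∘ₗ (app g⁻¹).toLinearMap, (app g).map_ne_zero_iff.2 hc,
    comp_inv_ne_zero hφ g, C5.comp_inv_app φ g c ▸ hφc, ?_⟩
  rw [← tv_conj hφc]

lemma closure_tvSet_conj {G : Subgroup (GL (Fin 3) F)} {g : GL (Fin 3) F}
    (hg : ∀ a ∈ G, g * a * g⁻¹ ∈ G) {x : GL (Fin 3) F} (hx : x ∈ Subgroup.closure (tvSet G)) :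
    g * x * g⁻¹ ∈ Subgroup.closure (tvSet G) := by
  have hle : (Subgroup.closure (tvSet G)).map (MulAut.conj g).toMonoidHom ≤ Subgroup.closure (tvSet G) := by
    rw [MonoidHom.map_closure]
    refine Subgroup.closure_mono ?_
    rintro _ ⟨y, hy, rfl⟩
    exact tvSet_conj hg hy
  exact hle ⟨x, hx, rfl⟩

/-- Cube roots of unity of order prime to three. -/
lemma exists_cube_root {A : Type*} [Monoid A] {u : A} {N : ℕ} (hu : u ^ N = 1) (h3 : ¬ 3 ∣ N) :
    ∃ m : ℕ, (u ^ m) ^ 3 = u := by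
  rcases (by omega : N % 3 = 1 ∨ N % 3 = 2) with h | h
  · refine ⟨2 * (N / 3) + 1, ?_⟩
    rw [← pow_mul, show (2 * (N / 3) + 1) * 3 = N + N + 1 by omega, pow_succ, pow_add, hu, one_mul, one_mul]
  · refine ⟨N / 3 + 1, ?_⟩
    rw [← pow_mul, show (N / 3 + 1) * 3 = N + 1 by omega, pow_succ, hu, one_mul]

/-- Membership of scalars in `GU`. -/
lemma scalar_mem_GU_iff {K : Type*} [Field K] {n r : ℕ} (hn : 0 < n) (c : Kˣ) :
    GeneralLinearGroup.scalar (Fin n) c ∈ Cfsg.GU n K r ↔ c ^ (r + 1) = 1 := by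
  have happ : ∀ u v : Fin n → K, Cfsg.hermForm n K r
      ((GeneralLinearGroup.scalar (Fin n) c : GL (Fin n) K).val *ᵥ u)
      ((GeneralLinearGroup.scalar (Fin n) c : GL (Fin n) K).val *ᵥ v) =
      (c : K) ^ (r + 1) * Cfsg.hermForm n K r u v := fun u v => by
    rw [GeneralLinearGroup.coe_scalar]
    simp only [Cfsg.hermForm, Finset.mul_sum, Matrix.scalar_apply, Matrix.mulVec_diagonal, mul_pow]
    exact Finset.sum_congr rfl fun i _ => by ring
  constructor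
  · intro h
    refine Units.ext ?_
    rw [Units.val_pow_eq_pow_val, Units.val_one]
    have h1 := (happ (Pi.single ⟨0, hn⟩ 1) (fun _ => 1)).symm.trans (h _ _)
    have e : Cfsg.hermForm n K r (Pi.single ⟨0, hn⟩ 1) (fun _ => 1) = 1 := by
      simp [Cfsg.hermForm]
    rwa [e, mul_one] at h1
  · intro h u v
    show Cfsg.hermForm n K r _ _ = _
    refine (happ u v).trans ?_
    rw [show (c : K) ^ (r + 1) = 1 by rw [← Units.val_pow_eq_pow_val, h, Units.val_one], one_mul]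

variable [Fintype F] {p α : ℕ} [Fact p.Prime]

set_option maxHeartbeats 800000 in
/-- **The socle contains elations.** -/
theorem Over.elation_case (hF : Fintype.card F = p ^ α) (h2 : (2 : F) ≠ 0) (O : Over H Gh) (S : Subgroup H)
    [S.Normal] (hS : IsSimpleGroup ↥S) (hab : ¬ ∀ a ∈ S, ∀ b ∈ S, a * b = b * a)
    (hSi : Irred (O.pre S)) (hef : ¬ ElationFree (O.pre S)) :
    (∃ (K : Type) (_ : Field K) (_ : Fintype K) (β : ℕ), Fintype.card K = p ^ β ∧ β ∣ α ∧
      Nonempty (H ≃* Matrix.ProjectiveSpecialLinearGroup (Fin 3) K)) ∨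
    (∃ (K : Type) (_ : Field K) (_ : Fintype K) (β : ℕ), Fintype.card K = p ^ (2 * β) ∧ 2 * β ∣ α ∧
      Nonempty (H ≃* Cfsg.PSU 3 K (p ^ β))) ∨
    (∃ (K : Type) (_ : Field K) (_ : Fintype K) (β : ℕ), Fintype.card K = p ^ β ∧ 3 ∣ p ^ β - 1 ∧
      3 * β ∣ α ∧ ∃ L : Subgroup H, L.index = 3 ∧
        Nonempty (↥L ≃* Matrix.ProjectiveSpecialLinearGroup (Fin 3) K)) ∨
    (∃ (K : Type) (_ : Field K) (_ : Fintype K) (β : ℕ), Fintype.card K = p ^ (2 * β) ∧ 3 ∣ p ^ β + 1 ∧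
      6 * β ∣ α ∧ ∃ L : Subgroup H, L.index = 3 ∧ Nonempty (↥L ≃* Cfsg.PSU 3 K (p ^ β))) := by
  classical
  obtain ⟨G, hG⟩ : ∃ G, G = O.pre S := ⟨_, rfl⟩
  rw [← hG] at hSi hef
  obtain ⟨M, hMdef⟩ : ∃ M, M = Subgroup.closure (tvSet G) := ⟨_, rfl⟩
  have hGn : ∀ g ∈ Gh, ∀ a ∈ G, g * a * g⁻¹ ∈ G := fun g hg a ha => by
    rw [hG] at ha ⊢
    exact O.conj_mem_pre (N := S) (M := ⊤) (fun m _ n hn => ‹S.Normal›.conj_mem n hn m) g
      ((O.mem_pre (N := ⊤) (g := ⟨g, hg⟩)).2 (Subgroup.mem_top _)) a ha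
  have hMn : ∀ g ∈ Gh, ∀ x ∈ M, g * x * g⁻¹ ∈ M := fun g hg x hx => hMdef ▸ closure_tvSet_conj (hGn g hg) (hMdef ▸ hx)
  have hMG : M ≤ G := hMdef ▸ (Subgroup.closure_le G).2 fun x hx => hx.1
  have hMGh : M ≤ Gh := hMG.trans (hG ▸ O.pre_le S)
  obtain ⟨c, hc0, φ, hφ0, hφc, hφ⟩ : ∃ c, Cen G c := by
    by_contra hno
    exact hef fun c hc => hno ⟨c, hc⟩
  have htM : tv c φ ∈ M := hMdef ▸ Subgroup.subset_closure ⟨hφ, c, φ, hc0, hφ0, hφc, rfl⟩
  -- the image of `M` is the socle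
  let MS : Subgroup H := (M.subgroupOf Gh).map O.π
  have hMS : MS = S := by
    have hle : MS ≤ S := by
      rintro _ ⟨g, hg, rfl⟩
      exact O.mem_pre.1 (hG ▸ hMG hg)
    have hnor : (MS.subgroupOf S).Normal := ⟨fun x hx s => by
      obtain ⟨g, hg, hgx⟩ := hx
      obtain ⟨h, hh⟩ := O.surj (s : H)
      refine ⟨h * g * h⁻¹, hMn h h.2 g hg, ?_⟩
      rw [map_mul, map_mul, map_inv, hgx, hh]
      rfl⟩
    rcases hS.eq_bot_or_eq_top_of_normal _ hnor with h | h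
    · exfalso
      have h1 : O.π ⟨_, hMGh htM⟩ ∈ MS := ⟨⟨_, hMGh htM⟩, htM, rfl⟩
      have h2 : (⟨_, hle h1⟩ : ↥S) ∈ MS.subgroupOf S := h1
      rw [h, Subgroup.mem_bot, Subtype.ext_iff] at h2
      exact tv_nonscalar hc0 hφ0 hφc ((O.ker_iff _).1 h2)
    · exact le_antisymm hle (Subgroup.subgroupOf_eq_top.1 h)
  have hMi : Irred M := by
    refine irred_of_normal hSi (fun g hg x hx => hMn g (O.pre_le S (hG ▸ hg)) x hx) fun hcomm => hab ?_
    rw [← hMS]
    rintro _ ⟨a, ha, rfl⟩ _ ⟨b, hb, rfl⟩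
    rw [← map_mul, ← map_mul]
    exact congrArg O.π (Subtype.ext (hcomm _ ha _ hb))
  have htv : tvSet M = tvSet G := Set.ext fun x =>
    ⟨fun h => ⟨hMG h.1, h.2⟩, fun h => ⟨hMdef ▸ Subgroup.subset_closure h, h.2⟩⟩
  obtain ⟨K, P, hMK⟩ := isSLOrSU_of_transvections h2 M ((hMGh).trans O.sl) hMi (by rw [htv]; exact hMdef)
  obtain ⟨γ, hγ1, hKγ, hγα⟩ := exists_pow hF K
  haveI : Fintype K := Fintype.ofFinite _
  have hKc : Fintype.card K = p ^ γ := by rw [← Nat.card_eq_fintype_card, hKγ]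
  obtain ⟨K0, iK0, fK0, hK0, ⟨e0⟩⟩ := exists_small_field K hγ1 hKγ
  have hp : p.Prime := Fact.out
  -- the general pattern
  have hMY : ∀ (Y : Subgroup (Matrix.SpecialLinearGroup (Fin 3) K)) (Q : Subgroup (GL (Fin 3) K)),
      M = Y.map (embK K P) → (∀ X, X ∈ Y ↔ Matrix.SpecialLinearGroup.toGL X ∈ Q) →
      ∀ g : ↥Gh, O.π g ∈ S ↔ ∃ X : Matrix.SpecialLinearGroup (Fin 3) K,
        Matrix.SpecialLinearGroup.toGL X ∈ Q ∧
          (g : GL (Fin 3) F) * (embK K P X)⁻¹ ∈ Cfsg.Geo.scalars (Fin 3) F := by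
    intro Y Q hY hYQ g
    constructor
    · intro h
      rw [← hMS] at h
      obtain ⟨m, hm, hmg⟩ := h
      obtain ⟨X, hX, hXm⟩ : (m : GL (Fin 3) F) ∈ Y.map (embK K P) := hY ▸ hm
      refine ⟨X, (hYQ X).1 hX, ?_⟩
      rw [hXm]
      exact (O.ker_iff (g * m⁻¹)).1 (by rw [map_mul, map_inv, hmg, mul_inv_cancel])
    · rintro ⟨X, hX, hz⟩
      have hXM : embK K P X ∈ M := hY ▸ ⟨X, (hYQ X).2 hX, rfl⟩
      have h1 : O.π (g * ⟨_, hMGh hXM⟩⁻¹) = 1 := (O.ker_iff _).2 hz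
      rw [map_mul, map_inv, mul_inv_eq_one] at h1
      rw [h1, ← hMS]
      exact ⟨_, hXM, rfl⟩
  rcases hMK with hMK | ⟨r, hr, hMK⟩
  · -- linear
    have hYQ : ∀ X, X ∈ (⊤ : Subgroup (Matrix.SpecialLinearGroup (Fin 3) K)) ↔
        Matrix.SpecialLinearGroup.toGL X ∈ (⊤ : Subgroup (GL (Fin 3) K)) := fun X => by simp
    have hM' := hMY _ _ hMK hYQ
    obtain ⟨eS⟩ := socle_equiv O S P ⊤ hM' ⊤ hYQ (hMK ▸ hMGh) (fun X => by
      have h1 : X ∈ Subgroup.center ↥(⊤ : Subgroup (Matrix.SpecialLinearGroup (Fin 3) K)) ↔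
          (X : Matrix.SpecialLinearGroup (Fin 3) K) ∈ Subgroup.center _ := by
        simp [Subgroup.mem_center_iff, Subtype.ext_iff]
      rw [h1, Matrix.SpecialLinearGroup.mem_center_iff]
      constructor
      · rintro ⟨z, -, hz⟩
        exact ⟨z, hz.symm⟩
      · rintro ⟨z, hz⟩
        refine ⟨z, ?_, hz.symm⟩
        have := (X : Matrix.SpecialLinearGroup (Fin 3) K).2
        rw [hz] at this
        simpa using this)
    have e1 : ↥S ≃* Matrix.ProjectiveSpecialLinearGroup (Fin 3) K0 :=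
      eS.trans ((QuotientGroup.congr _ _ Subgroup.topEquiv (Linear.map_center_mulEquiv _)).trans
        (Linear.pslMapEquiv e0))
    rcases index_three O S P ⊤ (fun _ _ => trivial)
      (fun g hg => by
        obtain ⟨s, k, hk⟩ := normalizes_SL K P (fun x hx => hMK ▸ hMn g hg x (hMK.symm ▸ hx))
        exact ⟨s, k, trivial, hk⟩) hM' with hS' | ⟨hidx, s, u, -, hsu, hout⟩
    · exact Or.inl ⟨K0, iK0, fK0, γ, hK0, hγα,
        ⟨(((MulEquiv.subgroupCongr hS').trans Subgroup.topEquiv).symm).trans e1⟩⟩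
    · refine Or.inr (Or.inr (Or.inl ?_))
      have h3 : 3 ∣ p ^ γ - 1 := by
        by_contra h3
        have hu : u ^ (p ^ γ - 1) = 1 := by
          have := pow_card_eq_one (x := u)
          rwa [Fintype.card_units, hKc] at this
        obtain ⟨m, hm⟩ := exists_cube_root hu h3
        refine hout (u ^ m) trivial ?_
        rw [div_pow, hsu, ← map_pow, hm, div_self']
      have hsK : (s : F) ∉ K := fun hs => by
        refine hout (Units.mk0 (⟨s, hs⟩ : K) fun h => s.ne_zero (congrArg Subtype.val h)) trivial ?_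
        rw [show Units.map K.subtype.toMonoidHom (Units.mk0 (⟨s, hs⟩ : K) _) = s from Units.ext rfl, div_self',
          one_pow]
      have hs3 : (s : F) ^ 3 ∈ K := by
        rw [← Units.val_pow_eq_pow_val, hsu]
        exact ((u : K)).2
      exact ⟨K0, iK0, fK0, γ, hK0, h3, three_mul_dvd hF K hKγ h3 hsK hs3, S, hidx, ⟨e1⟩⟩
  · -- unitary
    have hL : Fintype.card K = r ^ 2 := by rw [← Nat.card_eq_fintype_card, hr]
    obtain ⟨β, -, hrβ⟩ := (Nat.dvd_prime_pow hp).1 (show r ∣ p ^ γ from ⟨r, by rw [← hKc, hL, pow_two]⟩)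
    have hγβ : γ = 2 * β := by
      refine Nat.pow_right_injective hp.two_le ?_
      show p ^ γ = p ^ (2 * β)
      rw [← hKc, hL, hrβ, ← pow_mul, mul_comm]
    have hYQ : ∀ X, X ∈ Cfsg.SU 3 K r ↔ Matrix.SpecialLinearGroup.toGL X ∈ Cfsg.GU 3 K r := fun X => Iff.rfl
    have hM' := hMY _ _ hMK hYQ
    obtain ⟨eS⟩ := socle_equiv O S P (Cfsg.GU 3 K r) hM' (Cfsg.SU 3 K r) hYQ (hMK ▸ hMGh)
      (fun X => Unitary.mem_center_SU_iff hL (by norm_num) X)
    have e1 : ↥S ≃* Cfsg.PSU 3 K0 (p ^ β) := hrβ ▸ eS.trans (Unitary.psuMapEquiv e0 3 r)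
    have hdet : ∀ k ∈ Cfsg.GU 3 K r,
        GeneralLinearGroup.scalar (Fin 3) (GeneralLinearGroup.det k) ∈ Cfsg.GU 3 K r := fun k hk => by
      rw [scalar_mem_GU_iff (by norm_num)]
      refine Units.ext ?_
      rw [Units.val_pow_eq_pow_val, Units.val_one]
      exact Unitary.IsUnitary.det_norm hL (M := (k : Matrix (Fin 3) (Fin 3) K)) hk
    rcases index_three O S P (Cfsg.GU 3 K r) hdet
      (fun g hg => normalizes_SU h2 K hr P (fun x hx => hMK ▸ hMn g hg x (hMK.symm ▸ hx))) hM'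
      with hS' | ⟨hidx, s, u, hu, hsu, hout⟩
    · exact Or.inr (Or.inl ⟨K0, iK0, fK0, β, hγβ ▸ hK0, hγβ ▸ hγα,
        ⟨(((MulEquiv.subgroupCongr hS').trans Subgroup.topEquiv).symm).trans e1⟩⟩)
    · refine Or.inr (Or.inr (Or.inr ?_))
      rw [scalar_mem_GU_iff (by norm_num)] at hu
      simp only [scalar_mem_GU_iff (show 0 < 3 by norm_num)] at hout
      have h3 : 3 ∣ r + 1 := by
        by_contra h3
        obtain ⟨m, hm⟩ := exists_cube_root hu h3
        refine hout (u ^ m) (by rw [← pow_mul, mul_comm, pow_mul, hu, one_pow]) ?_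
        rw [div_pow, hsu, ← map_pow, hm, div_self']
      have hr1 : 1 ≤ r := by rw [hrβ]; exact Nat.one_le_pow _ _ hp.pos
      have hsK : (s : F) ∉ K := fun hs => by
        set v : Kˣ := Units.mk0 (⟨s, hs⟩ : K) fun h => s.ne_zero (congrArg Subtype.val h) with hv
        have hvs : Units.map K.subtype.toMonoidHom v = s := Units.ext rfl
        have hv3 : v ^ 3 = u := Units.map_injective (f := K.subtype.toMonoidHom) K.subtype.injective
          (by rw [map_pow, hvs, hsu])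
        refine hout v ?_ (by rw [hvs, div_self', one_pow])
        set w := v ^ (r + 1) with hw
        have hw3 : w ^ 3 = 1 := by rw [hw, ← pow_mul, mul_comm, pow_mul, hv3, hu]
        have hwr : w ^ (r + 1) = 1 := by
          obtain ⟨a, ha⟩ := h3
          rw [ha, pow_mul, hw3, one_pow]
        have hw1 : w ^ (r - 1) = 1 := by
          rw [hw, ← pow_mul]
          have := pow_card_eq_one (x := v)
          rw [Fintype.card_units, hL] at this
          have hcalc : (r + 1) * (r - 1) = r ^ 2 - 1 := by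
            rw [← Nat.sq_sub_sq r 1, one_pow]
          rwa [hcalc]
        have hw2 : w ^ 2 = 1 := by
          rw [show r + 1 = r - 1 + 2 by omega, pow_add, hw1, one_mul] at hwr
          exact hwr
        calc w = w ^ 3 := by rw [pow_succ, hw2, one_mul]
          _ = 1 := hw3
      have h3' : 3 ∣ p ^ γ - 1 := by
        rw [hγβ, mul_comm, pow_mul, ← hrβ, ← one_pow 2, Nat.sq_sub_sq]
        exact dvd_mul_of_dvd_left h3 _
      have hs3 : (s : F) ^ 3 ∈ K := by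
        rw [← Units.val_pow_eq_pow_val, hsu]
        exact ((u : K)).2
      exact ⟨K0, iK0, fK0, β, hγβ ▸ hK0, hrβ ▸ h3, by
        have := three_mul_dvd hF K hKγ h3' hsK hs3
        rwa [hγβ, ← mul_assoc] at this, S, hidx, ⟨e1⟩⟩

end Cfsg.Agent.Mitchell.Almost
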