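/-
Assembly of Mitchell's classification in dimension three, odd characteristic.
Main results:
* `overPSL` : a subgroup of `PSL₃` and its preimage
* `FreeInputs` : what the elation-free analysis has to supply
* `classify` : the classification
-/
import Cfsg.Agent.Lib.Mitchell.Almost.Elation
import Cfsg.Agent.Lib.Linear.AltSix

set_option autoImplicit false
set_option linter.unusedSectionVars false
set_option linter.style.haveILetI false

namespace Cfsg.Agent.Mitchell.Almost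

open Matrix Cfsg.Agent.SL3Max Cfsg.Agent.Transvect

universe u v

variable {F : Type u} [Field F]

lemma mem_center_iff_toGL {x : Matrix.SpecialLinearGroup (Fin 3) F} :
    x ∈ Subgroup.center (Matrix.SpecialLinearGroup (Fin 3) F) ↔
      Matrix.SpecialLinearGroup.toGL x ∈ Cfsg.Geo.scalars (Fin 3) F := by
  rw [Matrix.SpecialLinearGroup.mem_center_iff, Cfsg.Geo.mem_scalars_iff]
  constructor
  · rintro ⟨r, hr, hrx⟩
    have hr0 : r ≠ 0 := fun h0 => by rw [h0] at hr; simp at hr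
    refine ⟨Units.mk0 r hr0, ?_⟩
    show (x : Matrix (Fin 3) (Fin 3) F) = _
    rw [← hrx, Matrix.scalar_apply, ← Matrix.smul_one_eq_diagonal]
    rfl
  · rintro ⟨c, hc⟩
    have hc' : (x : Matrix (Fin 3) (Fin 3) F) = (c : F) • 1 := hc
    refine ⟨c, ?_, by rw [hc', Matrix.scalar_apply, ← Matrix.smul_one_eq_diagonal]⟩
    have := x.2
    rw [hc', det_smul, det_one, mul_one] at this
    exact this

/-- The preimage of a subgroup of `PSL₃` in `GL₃`. -/
def preGL (H : Subgroup (Matrix.ProjectiveSpecialLinearGroup (Fin 3) F)) : Subgroup (GL (Fin 3) F) :=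
  (H.comap (QuotientGroup.mk' _)).map Matrix.SpecialLinearGroup.toGL

/-- A subgroup of `PSL₃` and its preimage. -/
noncomputable def overPSL (H : Subgroup (Matrix.ProjectiveSpecialLinearGroup (Fin 3) F)) :
    Over ↥H (preGL H) :=
  let e : ↥(H.comap (QuotientGroup.mk' _)) ≃* ↥(preGL H) :=
    (H.comap (QuotientGroup.mk' _)).equivMapOfInjective _ Matrix.SpecialLinearGroup.toGL_injective
  let f : ↥(H.comap (QuotientGroup.mk' (Subgroup.center (Matrix.SpecialLinearGroup (Fin 3) F)))) →* ↥H :=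
    ((QuotientGroup.mk' _).comp (Subgroup.subtype _)).codRestrict H fun x => x.2
  { π := f.comp e.symm.toMonoidHom
    surj := fun y => by
      obtain ⟨x, hx⟩ := QuotientGroup.mk'_surjective _ (y : Matrix.ProjectiveSpecialLinearGroup (Fin 3) F)
      refine ⟨e ⟨x, Subgroup.mem_comap.2 (hx ▸ y.2)⟩, Subtype.ext ?_⟩
      rw [MonoidHom.comp_apply, MulEquiv.coe_toMonoidHom, e.symm_apply_apply]
      exact hx
    ker_iff := fun g => by
      obtain ⟨x, rfl⟩ := e.surjective g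
      show f (e.symm (e x)) = 1 ↔ _
      rw [e.symm_apply_apply, Subtype.ext_iff]
      exact (QuotientGroup.eq_one_iff _).trans mem_center_iff_toGL
    sl := by
      rintro _ ⟨x, -, rfl⟩
      exact mem_sl_iff.2 x.2
    hz := fun g hg => by
      let x : Matrix.SpecialLinearGroup (Fin 3) F := ⟨(g : Matrix (Fin 3) (Fin 3) F), mem_sl_iff.1 hg.2⟩
      have hx : Matrix.SpecialLinearGroup.toGL x = g := Units.ext rfl
      refine ⟨x, ?_, hx⟩
      show QuotientGroup.mk' _ x ∈ H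
      rw [show QuotientGroup.mk' (Subgroup.center (Matrix.SpecialLinearGroup (Fin 3) F)) x = 1 from
        (QuotientGroup.eq_one_iff x).2 (mem_center_iff_toGL.2 (by rw [hx]; exact hg.1))]
      exact H.one_mem }

/-- What the elation-free analysis supplies. -/
structure FreeInputs (F : Type u) [Field F] (p α : ℕ) : Prop where
  free : ∀ {G : Subgroup (GL (Fin 3) F)}, Ctx G →
    (∃ (K : Type) (_ : Field K) (_ : Fintype K), Odd (Fintype.card K) ∧ 3 < Fintype.card K ∧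
      Nonempty (Sq G ≃* Matrix.ProjectiveSpecialLinearGroup (Fin 2) K)) ∨
    Nonempty (Sq G ≃* alternatingGroup (Fin 7))
  ident : ∀ {G : Subgroup (GL (Fin 3) F)}, Ctx G → Irred G → ∀ {K : Type} [Field K] [Fintype K],
    Odd (Fintype.card K) → 3 < Fintype.card K →
    (Sq G ≃* Matrix.ProjectiveSpecialLinearGroup (Fin 2) K) →
      (∃ β, Fintype.card K = p ^ β ∧ β ∣ α) ∨
      (Fintype.card K = 5 ∧ (p ^ α % 10 = 1 ∨ p ^ α % 10 = 9)) ∨
      (Fintype.card K = 7 ∧ (p ^ α) ^ 3 % 7 = 1) ∨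
      (Fintype.card K = 9 ∧ ((p = 5 ∧ Even α) ∨ p ^ α % 30 = 1 ∨ p ^ α % 30 = 19))
  identSeven : ∀ {G : Subgroup (GL (Fin 3) F)}, Ctx G → Irred G →
    (Sq G ≃* alternatingGroup (Fin 7)) → p = 5 ∧ Even α
  outerDef : ∀ {G : Subgroup (GL (Fin 3) F)}, Ctx G → Irred G → ∀ {K : Type} [Field K] [Fintype K],
    Odd (Fintype.card K) → 3 < Fintype.card K →
    (Sq G ≃* Matrix.ProjectiveSpecialLinearGroup (Fin 2) K) →
    ∀ (G' : Subgroup (GL (Fin 3) F)), G ≤ G' → G' ≤ Cfsg.Geo.specialLinear (Fin 3) F →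
    (∀ h ∈ G', ∀ x ∈ G, h * x * h⁻¹ ∈ G) →
    (∀ h ∈ G', (∀ x ∈ G, h * x * h⁻¹ * x⁻¹ ∈ Cfsg.Geo.scalars (Fin 3) F) →
      h ∈ Cfsg.Geo.scalars (Fin 3) F) →
    ∀ {β : ℕ}, Fintype.card K = p ^ β →
      Nonempty (Sq G' ≃* Matrix.ProjectiveSpecialLinearGroup (Fin 2) K) ∨
      Nonempty (Sq G' ≃* (GL (Fin 2) K ⧸ Subgroup.center (GL (Fin 2) K)))
  outerSmall : ∀ {G : Subgroup (GL (Fin 3) F)}, Ctx G → Irred G → ∀ {K : Type} [Field K] [Fintype K],
    Odd (Fintype.card K) → 3 < Fintype.card K →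
    (Sq G ≃* Matrix.ProjectiveSpecialLinearGroup (Fin 2) K) →
    ∀ (G' : Subgroup (GL (Fin 3) F)), G ≤ G' → G' ≤ Cfsg.Geo.specialLinear (Fin 3) F →
    (∀ h ∈ G', ∀ x ∈ G, h * x * h⁻¹ ∈ G) →
    (∀ h ∈ G', (∀ x ∈ G, h * x * h⁻¹ * x⁻¹ ∈ Cfsg.Geo.scalars (Fin 3) F) →
      h ∈ Cfsg.Geo.scalars (Fin 3) F) →
    (Fintype.card K = 5 ∨ Fintype.card K = 7) → (∀ β, Fintype.card K ≠ p ^ β) → G' = G
  outerNine : ∀ {G : Subgroup (GL (Fin 3) F)}, Ctx G → Irred G → ∀ {K : Type} [Field K] [Fintype K],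
    Odd (Fintype.card K) → 3 < Fintype.card K →
    (Sq G ≃* Matrix.ProjectiveSpecialLinearGroup (Fin 2) K) →
    ∀ (G' : Subgroup (GL (Fin 3) F)), G ≤ G' → G' ≤ Cfsg.Geo.specialLinear (Fin 3) F →
    (∀ h ∈ G', ∀ x ∈ G, h * x * h⁻¹ ∈ G) →
    (∀ h ∈ G', (∀ x ∈ G, h * x * h⁻¹ * x⁻¹ ∈ Cfsg.Geo.scalars (Fin 3) F) →
      h ∈ Cfsg.Geo.scalars (Fin 3) F) →
    Fintype.card K = 9 → p ≠ 3 → G' = G ∨ (p = 5 ∧ (G.subgroupOf G').index = 2)
  outerSeven : ∀ {G : Subgroup (GL (Fin 3) F)}, Ctx G → Irred G →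
    (Sq G ≃* alternatingGroup (Fin 7)) →
    ∀ (G' : Subgroup (GL (Fin 3) F)), G ≤ G' → G' ≤ Cfsg.Geo.specialLinear (Fin 3) F →
    (∀ h ∈ G', ∀ x ∈ G, h * x * h⁻¹ ∈ G) →
    (∀ h ∈ G', (∀ x ∈ G, h * x * h⁻¹ * x⁻¹ ∈ Cfsg.Geo.scalars (Fin 3) F) →
      h ∈ Cfsg.Geo.scalars (Fin 3) F) → G' = G

variable {H : Type v} [Group H] {Gh : Subgroup (GL (Fin 3) F)}

/-- The standing hypotheses for the socle. -/
theorem Over.ctx (h2 : (2 : F) ≠ 0) (O : Over H Gh) (S : Subgroup H) (hS : IsSimpleGroup ↥S)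
    (hab : ¬ ∀ a ∈ S, ∀ b ∈ S, a * b = b * a) (hef : ElationFree (O.pre S)) : Ctx (O.pre S) where
  two_ne := h2
  sl := (O.restrict S).sl
  hz := (O.restrict S).hz
  efree := hef
  simple := by
    haveI := hS
    haveI : Nontrivial (Sq (O.pre S)) := (O.restrict S).sqEquiv.toEquiv.nontrivial
    exact IsSimpleGroup.isSimpleGroup_of_surjective (O.restrict S).sqEquiv.symm.toMonoidHom
      (O.restrict S).sqEquiv.symm.surjective
  nonab := fun hc => hab fun a ha b hb => by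
    have h1 := hc.is_comm.comm ((O.restrict S).sqEquiv.symm ⟨a, ha⟩) ((O.restrict S).sqEquiv.symm ⟨b, hb⟩)
    rw [← map_mul, ← map_mul] at h1
    exact congrArg Subtype.val ((O.restrict S).sqEquiv.symm.injective h1)

lemma Over.transfer {X : Type*} [Group X] (O : Over H Gh) {G : Subgroup (GL (Fin 3) F)}
    (h : Gh = G) (e : Sq G ≃* X) : Nonempty (H ≃* X) := by
  subst h
  exact ⟨O.sqEquiv.symm.trans e⟩

/-- **Mitchell's classification from the elation-free inputs.** -/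
theorem classify [Fintype F] (p α : ℕ) [Fact p.Prime] (hp : p ≠ 2) (hα : 1 ≤ α)
    (hF : Fintype.card F = p ^ α) (I : FreeInputs F p α) (O : Over H Gh) (hH : Nontrivial H)
    (hrad : ThreeTransRank.TrivialRadical H) :
    (∃ (K : Type) (_ : Field K) (_ : Fintype K) (β : ℕ), Fintype.card K = p ^ β ∧ β ∣ α ∧ Nonempty (H ≃* Matrix.ProjectiveSpecialLinearGroup (Fin 3) K)) ∨
    (∃ (K : Type) (_ : Field K) (_ : Fintype K) (β : ℕ), Fintype.card K = p ^ (2 * β) ∧ 2 * β ∣ α ∧ Nonempty (H ≃* Cfsg.PSU 3 K (p ^ β))) ∨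
    (∃ (K : Type) (_ : Field K) (_ : Fintype K) (β : ℕ), Fintype.card K = p ^ β ∧ 3 ∣ p ^ β - 1 ∧ 3 * β ∣ α ∧ ∃ L : Subgroup H, L.index = 3 ∧ Nonempty (↥L ≃* Matrix.ProjectiveSpecialLinearGroup (Fin 3) K)) ∨
    (∃ (K : Type) (_ : Field K) (_ : Fintype K) (β : ℕ), Fintype.card K = p ^ (2 * β) ∧ 3 ∣ p ^ β + 1 ∧ 6 * β ∣ α ∧ ∃ L : Subgroup H, L.index = 3 ∧ Nonempty (↥L ≃* Cfsg.PSU 3 K (p ^ β))) ∨
    (∃ (K : Type) (_ : Field K) (_ : Fintype K) (β : ℕ), Fintype.card K = p ^ β ∧ β ∣ α ∧ p ^ β ≠ 3 ∧ (Nonempty (H ≃* Matrix.ProjectiveSpecialLinearGroup (Fin 2) K) ∨ Nonempty (H ≃* (GL (Fin 2) K ⧸ Subgroup.center (GL (Fin 2) K))))) ∨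
    ((p ^ α % 10 = 1 ∨ p ^ α % 10 = 9) ∧ ∃ (K : Type) (_ : Field K) (_ : Fintype K), Fintype.card K = 5 ∧ Nonempty (H ≃* Matrix.ProjectiveSpecialLinearGroup (Fin 2) K)) ∨
    ((p ^ α) ^ 3 % 7 = 1 ∧ ∃ (K : Type) (_ : Field K) (_ : Fintype K), Fintype.card K = 7 ∧ Nonempty (H ≃* Matrix.ProjectiveSpecialLinearGroup (Fin 2) K)) ∨
    (p = 5 ∧ Even α ∧ (Nonempty (H ≃* ↥(alternatingGroup (Fin 6))) ∨ Nonempty (H ≃* ↥(alternatingGroup (Fin 7))) ∨
      ∃ L : Subgroup H, L.index = 2 ∧ Nonempty (↥L ≃* ↥(alternatingGroup (Fin 6))))) ∨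
    ((p ^ α % 30 = 1 ∨ p ^ α % 30 = 19) ∧ Nonempty (H ≃* ↥(alternatingGroup (Fin 6)))) := by
  classical
  have hpp : p.Prime := Fact.out
  have h2 : (2 : F) ≠ 0 := by
    haveI : CharP F p := charP_of_card_eq_prime_pow hF
    intro h
    have h1 : p ∣ 2 := (CharP.cast_eq_zero_iff F p 2).1 (by exact_mod_cast h)
    exact hp ((Nat.prime_dvd_prime_iff_eq hpp Nat.prime_two).1 h1)
  haveI := hH
  have hirr := O.irred h2 hrad hH
  obtain ⟨S, hSn, hS, hab, hSi, hcent⟩ := O.exists_socle hirr hrad hH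
  haveI := hSn
  by_cases hef : ElationFree (O.pre S)
  swap
  · rcases O.elation_case hF h2 S hS hab hSi hef with h | h | h | h
    · exact Or.inl h
    · exact Or.inr (Or.inl h)
    · exact Or.inr (Or.inr (Or.inl h))
    · exact Or.inr (Or.inr (Or.inr (Or.inl h)))
  refine Or.inr (Or.inr (Or.inr (Or.inr ?_)))
  have C := O.ctx h2 S hS hab hef
  have hnorm : ∀ h ∈ Gh, ∀ x ∈ O.pre S, h * x * h⁻¹ ∈ O.pre S := fun g hg a ha =>
    O.conj_mem_pre (N := S) (M := ⊤) (fun m _ n hn => hSn.conj_mem n hn m) g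
      ((O.mem_pre (N := ⊤) (g := ⟨g, hg⟩)).2 (Subgroup.mem_top _)) a ha
  have hc : ∀ h ∈ Gh, (∀ x ∈ O.pre S, h * x * h⁻¹ * x⁻¹ ∈ Cfsg.Geo.scalars (Fin 3) F) →
      h ∈ Cfsg.Geo.scalars (Fin 3) F := by
    intro g hg hgx
    refine (O.ker_iff ⟨g, hg⟩).1 (hcent _ fun s hs => ?_)
    obtain ⟨x, hx, rfl⟩ := O.exists_pre hs
    have h1 : O.π (⟨g, hg⟩ * x * ⟨g, hg⟩⁻¹ * x⁻¹) = 1 := (O.ker_iff _).2 (hgx _ hx)
    rw [map_mul, map_mul, map_mul, map_inv, map_inv, mul_inv_eq_one, mul_inv_eq_iff_eq_mul] at h1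
    exact h1
  have eS : Sq (O.pre S) ≃* ↥S := (O.restrict S).sqEquiv
  rcases I.free C with ⟨K, iK, fK, hK, hK3, ⟨e⟩⟩ | hs7
  · have hdvd : p ∣ p ^ α := dvd_pow_self p (by omega)
    by_cases hdef : ∃ β, Fintype.card K = p ^ β
    · refine Or.inl ?_
      have hβ : ∃ β, Fintype.card K = p ^ β ∧ β ∣ α := by
        obtain ⟨γ, hγ⟩ := hdef
        rcases I.ident C hSi hK hK3 e with h | ⟨h, hc5⟩ | ⟨h, hc7⟩ | ⟨h, hc9⟩
        · exact h
        all_goals
          exfalso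
          have hγ0 : γ ≠ 0 := by rintro rfl; rw [pow_zero] at hγ; omega
          have hpK : p ∣ Fintype.card K := hγ ▸ dvd_pow_self p hγ0
          rw [h] at hpK
        · rw [(Nat.prime_dvd_prime_iff_eq hpp (by norm_num)).1 hpK] at hc5 hdvd
          omega
        · rw [(Nat.prime_dvd_prime_iff_eq hpp (by norm_num)).1 hpK] at hc7 hdvd
          have := dvd_pow hdvd (three_ne_zero)
          omega
        · have h3 : p = 3 := (Nat.prime_dvd_prime_iff_eq hpp Nat.prime_three).1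
            (hpp.dvd_of_dvd_pow (show p ∣ 3 ^ 2 from hpK))
          rw [h3] at hc9 hdvd
          omega
      obtain ⟨β, hKβ, hβα⟩ := hβ
      refine ⟨K, iK, fK, β, hKβ, hβα, by omega, ?_⟩
      rcases I.outerDef C hSi hK hK3 e Gh (O.pre_le S) O.sl hnorm hc hKβ with hf | hf
      · exact Or.inl (hf.map O.sqEquiv.symm.trans)
      · exact Or.inr (hf.map O.sqEquiv.symm.trans)
    · push Not at hdef
      refine Or.inr ?_
      rcases I.ident C hSi hK hK3 e with ⟨β, h, -⟩ | ⟨h, hc5⟩ | ⟨h, hc7⟩ | ⟨h, hc9⟩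
      · exact absurd h (hdef β)
      · have hG := I.outerSmall C hSi hK hK3 e Gh (O.pre_le S) O.sl hnorm hc (Or.inl h) hdef
        exact Or.inl ⟨hc5, K, iK, fK, h, O.transfer hG e⟩
      · have hG := I.outerSmall C hSi hK hK3 e Gh (O.pre_le S) O.sl hnorm hc (Or.inr h) hdef
        exact Or.inr (Or.inl ⟨hc7, K, iK, fK, h, O.transfer hG e⟩)
      · have hp3 : p ≠ 3 := fun h3 => hdef 2 (by rw [h, h3]; norm_num)
        obtain ⟨a6⟩ := Linear.nonempty_pslTwo_nine h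
        refine Or.inr (Or.inr ?_)
        rcases I.outerNine C hSi hK hK3 e Gh (O.pre_le S) O.sl hnorm hc h hp3 with hG | ⟨h5, hidx⟩
        · rcases hc9 with ⟨h5, he⟩ | h30
          · exact Or.inl ⟨h5, he, Or.inl (O.transfer hG (e.trans a6))⟩
          · exact Or.inr ⟨h30, O.transfer hG (e.trans a6)⟩
        · have he : Even α := by
            rcases hc9 with ⟨-, he⟩ | h30
            · exact he
            · rw [h5] at h30 hdvd; omega
          refine Or.inl ⟨h5, he, Or.inr (Or.inr ⟨S, ?_, ⟨eS.symm.trans (e.trans a6)⟩⟩)⟩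
          rw [← hidx, ← Subgroup.index_comap_of_surjective S O.surj]
          congr 1
          ext g
          rw [Subgroup.mem_comap, Subgroup.mem_subgroupOf, O.mem_pre]
  · obtain ⟨e7⟩ := hs7
    obtain ⟨h5, he⟩ := I.identSeven C hSi e7
    have hG := I.outerSeven C hSi e7 Gh (O.pre_le S) O.sl hnorm hc
    exact Or.inr (Or.inr (Or.inr (Or.inl ⟨h5, he, Or.inr (Or.inl (O.transfer hG e7))⟩)))

end Cfsg.Agent.Mitchell.Almost
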